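import Groth.Agent.PCHom.Perfect
import Mathlib

/-!
# Base change and descent of pseudo-coherent and perfect ring maps
-/

set_option autoImplicit false
set_option linter.style.haveILetI false

universe u

open CategoryTheory TensorProduct

namespace Groth.Agent.PCHom

attribute [local instance] HasDerivedCategory.standard

/-- Flat base change of a perfect module. -/
theorem perfectModule_baseChange (A B : Type u) [CommRing A] [CommRing B] [Algebra A B] [Module.Flat A B]
    (M : Type u) [AddCommGroup M] [Module A M] (N : Type u) [AddCommGroup N] [Module B N]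
    (e : B ⊗[A] M ≃ₗ[B] N) (h : DRing.IsPerfectModule A M) : DRing.IsPerfectModule B N := by
  obtain ⟨E, a, b, hab, hE, ⟨i⟩⟩ := h
  let φ := algebraMap A B
  have hφ : φ.Flat := RingHom.flat_algebraMap_iff.2 ‹_›
  obtain ⟨j⟩ := DRingTorAmp.exists_esc_iso hφ (i ≪≫ DRingTorAmp.inDIso M)
  refine PerfHom.isPerfect_of_iso ?_ (show DRing.IsPerfect B (DRing.toD ((DRingTorAmp.escCx φ).obj E)) from
    ⟨_, a, b, DRingTorAmp.esc_outside φ hab, DRingTorAmp.esc_finiteProjective φ hE, ⟨Iso.refl _⟩⟩)
  exact j ≪≫ DerivedCategory.Q.mapIso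
    (((HomologicalComplex.singleMapHomologicalComplex (ModuleCat.extendScalars φ) (ComplexShape.up ℤ) 0).app
      (ModuleCat.of A M)) ≪≫
    (HomologicalComplex.single (ModuleCat.{u} B) (ComplexShape.up ℤ) 0).mapIso
      ((DRingKProj.extendEquiv (ModuleCat.of A M)).trans e).toModuleIso) ≪≫ (DRingTorAmp.inDIso N).symm

theorem extendSingleIso {A B : Type u} [CommRing A] [CommRing B] [Algebra A B] (M : Type u) [AddCommGroup M]
    [Module A M] : Nonempty (Dual.inD B (B ⊗[A] M) ≅ DRing.toD ((DRingTorAmp.escCx (algebraMap A B)).obj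
      ((HomologicalComplex.single (ModuleCat.{u} A) (ComplexShape.up ℤ) 0).obj (ModuleCat.of A M)))) :=
  ⟨DRingTorAmp.inDIso _ ≪≫ DerivedCategory.Q.mapIso
    ((HomologicalComplex.single (ModuleCat.{u} B) (ComplexShape.up ℤ) 0).mapIso
      (DRingKProj.extendEquiv (ModuleCat.of A M)).toModuleIso.symm ≪≫
    (((HomologicalComplex.singleMapHomologicalComplex (ModuleCat.extendScalars (algebraMap A B))
      (ComplexShape.up ℤ) 0).app (ModuleCat.of A M)).symm))⟩

theorem cover_ff (A B : Type u) [CommRing A] [CommRing B] [Algebra A B] [h : Module.FaithfullyFlat A B] :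
    DRingTorAmp.Cover (S := fun _ : Unit => B) fun _ => algebraMap A B :=
  DRingTorAmp.cover_of_faithfullyFlat _ (by
    rw [show (algebraMap A B).toAlgebra = (inferInstance : Algebra A B) from Algebra.algebra_ext _ _ fun _ => rfl]
    exact h)

theorem pcModule_descend (A B : Type u) [CommRing A] [CommRing B] [Algebra A B] [Module.FaithfullyFlat A B]
    (M : Type u) [AddCommGroup M] [Module A M] (N : Type u) [AddCommGroup N] [Module B N]
    (e : B ⊗[A] M ≃ₗ[B] N) (h : DRing.IsPseudoCoherentModule' B N) : DRing.IsPseudoCoherentModule' A M := by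
  obtain ⟨i⟩ := extendSingleIso (A := A) (B := B) M
  exact pc'_of_iso (DRingTorAmp.inDIso M).symm (DRingTorAmp.isPseudoCoherent'_descend (cover_ff A B) _
    fun _ => pc'_of_iso i (pcModule_congr e.symm h))

theorem perfectModule_descend (A B : Type u) [CommRing A] [CommRing B] [Algebra A B] [Module.FaithfullyFlat A B]
    (M : Type u) [AddCommGroup M] [Module A M] (N : Type u) [AddCommGroup N] [Module B N]
    (e : B ⊗[A] M ≃ₗ[B] N) (h : DRing.IsPerfectModule B N) : DRing.IsPerfectModule A M := by
  obtain ⟨i⟩ := extendSingleIso (A := A) (B := B) M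
  exact PerfHom.isPerfect_of_iso (DRingTorAmp.inDIso M).symm (DRingTorAmp.isPerfect_descend (cover_ff A B) _
    fun _ => PerfHom.isPerfect_of_iso i (PerfHom.isPerfectModule_congr e.symm h))

section Pushout

attribute [local instance] MvPolynomial.algebraMvPolynomial

variable {A A' B B' : Type u} [CommRing A] [CommRing A'] [CommRing B] [CommRing B'] [Algebra A A'] [Algebra A B]
  [Algebra A' B'] [Algebra B B'] [Algebra A B'] [IsScalarTower A A' B'] [IsScalarTower A B B']

/-- A presentation and its base change. -/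
theorem exists_presentation_baseChange [Algebra.IsPushout A A' B B'] {n : ℕ} (φ : MvPolynomial (Fin n) A →ₐ[A] B)
    (hφ : Function.Surjective φ) :
    ∃ φ' : MvPolynomial (Fin n) A' →ₐ[A'] B', Function.Surjective φ' ∧
      (letI := φ.toRingHom.toAlgebra
       letI := φ'.toRingHom.toAlgebra
       Nonempty (MvPolynomial (Fin n) A' ⊗[MvPolynomial (Fin n) A] B ≃ₗ[MvPolynomial (Fin n) A'] B')) := by
  let φ' : MvPolynomial (Fin n) A' →ₐ[A'] B' := MvPolynomial.aeval fun i => algebraMap B B' (φ (MvPolynomial.X i))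
  have h : ∀ x, φ' (MvPolynomial.map (algebraMap A A') x) = algebraMap B B' (φ x) := fun x => by
    rw [MvPolynomial.aeval_map_algebraMap]
    exact (AlgHom.congr_fun (MvPolynomial.aeval_unique ((IsScalarTower.toAlgHom A B B').comp φ)) x).symm
  refine ⟨φ', fun y => ?_, ?_⟩
  · obtain ⟨z, rfl⟩ := (Algebra.IsPushout.equiv A A' B B').surjective y
    induction z with
    | zero => exact ⟨0, by rw [map_zero, map_zero]⟩
    | add a b ha hb =>
      obtain ⟨p, hp⟩ := ha
      obtain ⟨q, hq⟩ := hb
      exact ⟨p + q, by rw [map_add, map_add, hp, hq]⟩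
    | tmul a b =>
      obtain ⟨p, rfl⟩ := hφ b
      exact ⟨MvPolynomial.C a * MvPolynomial.map (algebraMap A A') p, by
        rw [map_mul, h, Algebra.IsPushout.equiv_tmul]; simp [φ']⟩
  · letI := φ.toRingHom.toAlgebra
    letI := φ'.toRingHom.toAlgebra
    haveI : IsScalarTower A (MvPolynomial (Fin n) A) B := IsScalarTower.of_algebraMap_eq' φ.comp_algebraMap.symm
    haveI : IsScalarTower A' (MvPolynomial (Fin n) A') B' := IsScalarTower.of_algebraMap_eq' φ'.comp_algebraMap.symm
    letI : Algebra (MvPolynomial (Fin n) A) B' := ((algebraMap B B').comp φ.toRingHom).toAlgebra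
    haveI : IsScalarTower (MvPolynomial (Fin n) A) B B' := IsScalarTower.of_algebraMap_eq fun _ => rfl
    haveI : IsScalarTower (MvPolynomial (Fin n) A) (MvPolynomial (Fin n) A') B' :=
      IsScalarTower.of_algebraMap_eq fun x => (h x).symm
    haveI : IsScalarTower A (MvPolynomial (Fin n) A) B' := IsScalarTower.of_algebraMap_eq fun x => by
      rw [IsScalarTower.algebraMap_apply A B B']
      exact congrArg _ (φ.commutes x).symm
    haveI : IsScalarTower A (MvPolynomial (Fin n) A') B' := IsScalarTower.of_algebraMap_eq fun x => by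
      rw [IsScalarTower.algebraMap_apply A A' B', IsScalarTower.algebraMap_apply A' (MvPolynomial (Fin n) A') B']
      rfl
    haveI : Algebra.IsPushout (MvPolynomial (Fin n) A) B (MvPolynomial (Fin n) A') B' :=
      (Algebra.IsPushout.comp_iff (R := A) (S := MvPolynomial (Fin n) A) (T := B) (R' := A')
        (S' := MvPolynomial (Fin n) A') (T' := B')).1 (.symm inferInstance)
    haveI : Algebra.IsPushout (MvPolynomial (Fin n) A) (MvPolynomial (Fin n) A') B B' := .symm inferInstance
    exact ⟨(Algebra.IsPushout.equiv (MvPolynomial (Fin n) A) (MvPolynomial (Fin n) A') B B').toLinearEquiv⟩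

theorem flat_map [Module.Flat A A'] {n : ℕ} : Module.Flat (MvPolynomial (Fin n) A) (MvPolynomial (Fin n) A') :=
  Module.Flat.of_linearEquiv
    (Algebra.IsPushout.equiv A (MvPolynomial (Fin n) A) A' (MvPolynomial (Fin n) A')).symm.toLinearEquiv

/-- Flat base change of a pseudo-coherent ring map. -/
theorem baseChange [Module.Flat A A'] [Algebra.IsPushout A A' B B'] (h : MoreMor.IsPseudoCoherentHom A B) :
    MoreMor.IsPseudoCoherentHom A' B' := by
  obtain ⟨n, φ, hφ, hp⟩ := h
  obtain ⟨φ', hφ', he⟩ := exists_presentation_baseChange (A' := A') (B' := B') φ hφ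
  refine ⟨n, φ', hφ', ?_⟩
  letI := φ.toRingHom.toAlgebra
  letI := φ'.toRingHom.toAlgebra
  haveI := flat_map (A := A) (A' := A') (n := n)
  obtain ⟨e⟩ := he
  exact pcModule_baseChange _ _ B B' e hp

/-- Flat base change of a perfect ring map. -/
theorem perfect_baseChange [Module.Flat A A'] [Algebra.IsPushout A A' B B'] (h : MoreMor.IsPerfectHom A B) :
    MoreMor.IsPerfectHom A' B' := by
  obtain ⟨n, φ, hφ, -⟩ := id h.1
  obtain ⟨φ', hφ', he⟩ := exists_presentation_baseChange (A' := A') (B' := B') φ hφ
  refine ⟨baseChange h.1, ?_⟩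
  have hp := perfect_of_presentation h φ hφ
  letI := φ.toRingHom.toAlgebra
  letI := φ'.toRingHom.toAlgebra
  haveI : IsScalarTower A' (MvPolynomial (Fin n) A') B' := IsScalarTower.of_algebraMap_eq' φ'.comp_algebraMap.symm
  haveI := flat_map (A := A) (A' := A') (n := n)
  obtain ⟨e⟩ := he
  exact PerfHom.hasFiniteTorDim_of_perfect (B := MvPolynomial (Fin n) A') (perfectModule_baseChange _ _ B B' e hp)

end Pushout

section Descent

attribute [local instance] MvPolynomial.algebraMvPolynomial

variable {A T S : Type u} [CommRing A] [CommRing T] [CommRing S] [Algebra A T] [Algebra A S]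
  [Module.FaithfullyFlat A T]

theorem faithfullyFlat_map {n : ℕ} : Module.FaithfullyFlat (MvPolynomial (Fin n) A) (MvPolynomial (Fin n) T) :=
  Module.FaithfullyFlat.of_linearEquiv _ _
    (Algebra.IsPushout.equiv A (MvPolynomial (Fin n) A) T (MvPolynomial (Fin n) T)).symm.toLinearEquiv

attribute [local instance] Algebra.TensorProduct.rightAlgebra

/-- Descent of pseudo-coherence along faithfully flat base change. -/
theorem descend (h : MoreMor.IsPseudoCoherentHom T (T ⊗[A] S)) : MoreMor.IsPseudoCoherentHom A S := by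
  haveI : Algebra.FiniteType T (T ⊗[A] S) := by
    obtain ⟨n, φ, hφ, -⟩ := id h
    exact Algebra.FiniteType.of_surjective φ hφ
  haveI : Algebra.FiniteType A S := Algebra.FiniteType.of_finiteType_tensorProduct_of_faithfullyFlat T
  obtain ⟨n, φ, hφ⟩ := Algebra.FiniteType.iff_quotient_mvPolynomial''.1 (inferInstance : Algebra.FiniteType A S)
  obtain ⟨φ', hφ', he⟩ := exists_presentation_baseChange (A' := T) (B' := T ⊗[A] S) φ hφ
  refine ⟨n, φ, hφ, ?_⟩
  have hp := pc_of_presentation h φ' hφ'
  letI := φ.toRingHom.toAlgebra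
  letI := φ'.toRingHom.toAlgebra
  haveI := faithfullyFlat_map (A := A) (T := T) (n := n)
  obtain ⟨e⟩ := he
  exact pcModule_descend _ _ S (T ⊗[A] S) e hp

/-- Descent of perfectness along faithfully flat base change. -/
theorem perfect_descend (h : MoreMor.IsPerfectHom T (T ⊗[A] S)) : MoreMor.IsPerfectHom A S := by
  have h1 := descend (A := A) h.1
  obtain ⟨n, φ, hφ, -⟩ := id h1
  obtain ⟨φ', hφ', he⟩ := exists_presentation_baseChange (A' := T) (B' := T ⊗[A] S) φ hφ
  refine ⟨h1, ?_⟩
  have hp := perfect_of_presentation h φ' hφ'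
  letI := φ.toRingHom.toAlgebra
  letI := φ'.toRingHom.toAlgebra
  haveI : IsScalarTower A (MvPolynomial (Fin n) A) S := IsScalarTower.of_algebraMap_eq' φ.comp_algebraMap.symm
  haveI := faithfullyFlat_map (A := A) (T := T) (n := n)
  obtain ⟨e⟩ := he
  exact PerfHom.hasFiniteTorDim_of_perfect (B := MvPolynomial (Fin n) A) (perfectModule_descend _ _ S (T ⊗[A] S) e hp)

end Descent

end Groth.Agent.PCHom
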