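import Groth.Agent.PCHom.Scheme
import Groth.Agent.KoszulExt.Homology
import Groth.Prelude.Def_Mor2
import Mathlib

/-!
# Regular closed immersions are perfect
-/

set_option autoImplicit false
set_option linter.style.haveILetI false

universe u

open CategoryTheory AlgebraicGeometry TopologicalSpace

namespace Groth.Agent.PCHom

attribute [local instance] HasDerivedCategory.standard

/-- A regular closed immersion has Koszul regular ideal on every affine open. -/
theorem isKoszulRegularIdeal_ker {Z X : Scheme.{u}} (i : Z ⟶ X) (hi : Mor2.IsRegularClosedImmersion i)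
    (V : X.affineOpens) : LCI.IsKoszulRegularIdeal (i.ker.ideal V) := by
  obtain ⟨_, hreg⟩ := hi
  intro p hp
  let x : X := V.2.fromSpec p
  have hxV : x ∈ V.1 := V.2.opensRange_fromSpec.le ⟨p, rfl⟩
  have hx : x ∈ i.ker.support := by
    rw [Scheme.IdealSheafData.mem_support_iff_of_mem (U := V) hxV, ← SetLike.mem_coe] at *
    have h1 : p ∈ V.2.fromSpec ⁻¹' X.zeroLocus (U := V.1) (i.ker.ideal V) := by
      rw [V.2.fromSpec_preimage_zeroLocus]
      exact hp
    exact h1
  rw [← SetLike.mem_coe, Scheme.Hom.support_ker, i.isClosedEmbedding.isClosed_range.closure_eq] at hx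
  obtain ⟨z, hz⟩ := hx
  obtain ⟨U, hU, hzU, rs, hrs, hker⟩ := hreg z
  obtain ⟨f, g, hfg, hxf⟩ := exists_basicOpen_le_affine_inter V.2 hU x ⟨hxV, hz ▸ hzU⟩
  refine ⟨f, ?_, ?_⟩
  · have h2 : p ∈ V.2.fromSpec ⁻¹ᵁ X.basicOpen f := hxf
    rwa [V.2.fromSpec_preimage_basicOpen] at h2
  · let W : X.affineOpens := X.affineBasicOpen f
    have hWU : W ≤ (⟨U, hU⟩ : X.affineOpens) := show X.basicOpen f ≤ U from hfg.le.trans (X.basicOpen_le g)
    have hWV : W ≤ V := X.basicOpen_le f
    let ρU : Γ(X, U) →+* Γ(X, X.basicOpen f) := (X.presheaf.map (homOfLE (show X.basicOpen f ≤ U from hWU)).op).hom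
    let ρV : Γ(X, V.1) →+* Γ(X, X.basicOpen f) := (X.presheaf.map (homOfLE (show X.basicOpen f ≤ V.1 from hWV)).op).hom
    haveI : IsLocalization.Away f Γ(X, X.basicOpen f) := V.2.isLocalization_basicOpen f
    let e := IsLocalization.algEquiv (Submonoid.powers f) Γ(X, X.basicOpen f) (Localization.Away f)
    let φ : Γ(X, U) →+* Localization.Away f := e.toRingEquiv.toRingHom.comp ρU
    have hflat : φ.Flat := by
      refine RingHom.Flat.comp ?_ (RingHom.Flat.of_bijective e.bijective)
      have h3 : (𝟙 X : X ⟶ X).appLE U W.1 hWU = X.presheaf.map (homOfLE (show W.1 ≤ U from hWU)).op :=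
        Category.id_comp _
      have h4 := Scheme.Hom.flat_appLE (𝟙 X) hU W.2 hWU
      rwa [h3] at h4
    algebraize [φ]
    refine ⟨rs.map φ, KoszulExt.isKoszulRegularSeq_of_isWeaklyRegular
      (RingTheory.Sequence.IsWeaklyRegular.of_flat (S := Localization.Away f) hrs.toIsWeaklyRegular), ?_⟩
    calc (i.ker.ideal V).map (algebraMap _ (Localization.Away f))
        = ((i.ker.ideal V).map ρV).map e.toRingEquiv.toRingHom := by
          rw [Ideal.map_map]
          exact congrArg (Ideal.map · (i.ker.ideal V)) (RingHom.ext fun a => (e.commutes a).symm)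
      _ = ((i.ker.ideal ⟨U, hU⟩).map ρU).map e.toRingEquiv.toRingHom := by
          exact congrArg (Ideal.map e.toRingEquiv.toRingHom) ((i.ker.map_ideal hWV).trans (i.ker.map_ideal hWU).symm)
      _ = Ideal.span {a | a ∈ rs.map φ} := by
          rw [Ideal.map_map, hker, Ideal.map_ofList]

/-- A regular closed immersion is perfect. -/
theorem isPerfectMor_of_isRegularClosedImmersion {Z X : Scheme.{u}} (i : Z ⟶ X)
    (hi : Mor2.IsRegularClosedImmersion i) : MoreMor.IsPerfectMor i := by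
  haveI : IsClosedImmersion i := hi.1
  intro U V hU hV hUV
  have hW : IsAffineOpen (i ⁻¹ᵁ V) := hV.preimage i
  have h1 : PfQ (i.app V).hom := by
    letI := (i.app V).hom.toAlgebra
    have hs : Function.Surjective (algebraMap Γ(X, V) Γ(Z, i ⁻¹ᵁ V)) := i.app_surjective V hV
    refine isPerfectHom_of_surjective _ _ hs ?_
    refine PerfHom.isPerfectModule_congr
      ((Submodule.quotEquivOfEq (i.ker.ideal ⟨V, hV⟩) (RingHom.ker (algebraMap Γ(X, V) Γ(Z, i ⁻¹ᵁ V)))
        (Scheme.Hom.ker_apply i ⟨V, hV⟩)).trans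
        (Ideal.quotientKerAlgEquivOfSurjective (f := Algebra.ofId Γ(X, V) Γ(Z, i ⁻¹ᵁ V)) hs).toLinearEquiv)
      (PerfHom.isPerfectModule_quotient _ (isKoszulRegularIdeal_ker i hi ⟨V, hV⟩))
  have h2 : PfQ (Z.presheaf.map (homOfLE hUV).op).hom := by
    letI := (Z.presheaf.map (homOfLE hUV).op).hom.toAlgebra
    have h3 : (𝟙 Z : Z ⟶ Z).appLE (i ⁻¹ᵁ V) U hUV = Z.presheaf.map (homOfLE hUV).op := Category.id_comp _
    have h4 := Scheme.Hom.flat_appLE (𝟙 Z) hW hU hUV
    have h5 := Scheme.Hom.finitePresentation_appLE (𝟙 Z) hW hU hUV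
    rw [h3] at h4 h5
    haveI : Module.Flat Γ(Z, i ⁻¹ᵁ V) Γ(Z, U) := h4
    haveI : Algebra.FinitePresentation Γ(Z, i ⁻¹ᵁ V) Γ(Z, U) := h5
    exact S7068.result _ _
  exact pfQ_comp h1 h2

end Groth.Agent.PCHom
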