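import Groth.Agent.NLAmp.Regular
import Groth.Agent.RegLocus.Smooth
import Mathlib.RingTheory.TensorProduct.Quotient

/-!
# A section of a smooth algebra is locally cut out by a regular sequence
-/

set_option autoImplicit false

noncomputable section

universe u

open IsLocalRing RingTheory.Sequence Algebra

namespace Groth.Agent.PCHom

open NLAmp

section Nhd

variable {A : Type u} [CommRing A] {P : Type u} [CommRing P] [Algebra A P] [Module.Flat A P]
  [Algebra.FinitePresentation A P]

/-- Generators with regular image in the fibre give a Koszul-regular sequence on a basic open. -/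
theorem exists_koszulRegular_nhd_gen (I : Ideal P) (hI : I.FG) (q : Ideal P) [hq : q.IsPrime] {r : ℕ}
    (y : Fin r → Localization.AtPrime q)
    (hyJ : Ideal.span (Set.range y) = I.map (algebraMap P (Localization.AtPrime q)))
    (hyreg : IsWeaklyRegular
      (Localization.AtPrime q ⧸ (q.comap (algebraMap A P)).map (algebraMap A (Localization.AtPrime q)))
      (List.ofFn fun i => Ideal.Quotient.mk
        ((q.comap (algebraMap A P)).map (algebraMap A (Localization.AtPrime q))) (y i))) :
    ∃ g : P, g ∉ q ∧ ∃ a : Fin r → P, (∀ i, a i ∈ I) ∧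
      IsWeaklyRegular (Localization.Away g) ((List.ofFn a).map (algebraMap P (Localization.Away g))) ∧
      I.map (algebraMap P (Localization.Away g)) = Ideal.ofList ((List.ofFn a).map (algebraMap P (Localization.Away g))) := by
  classical
  let S := Localization.AtPrime q
  let p := q.comap (algebraMap A P)
  let pS := p.map (algebraMap A S)
  choose a u haI hu hau using fun i => exists_mem_mul q (hyJ.le (Ideal.subset_span ⟨i, rfl⟩) : y i ∈ I.map (algebraMap P S))
  have hreg1 : IsWeaklyRegular (S ⧸ pS) ((List.ofFn a).map (algebraMap P (S ⧸ pS))) := by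
    have h := unit_seq_regular _ (fun i => Ideal.Quotient.mk pS (u i)) (fun i => (hu i).map _) hyreg
    simp only [S, pS, p, ← map_mul, ← hau] at h ⊢
    rw [List.map_ofFn]
    exact h
  rw [isWeaklyRegular_map_algebraMap_iff] at hreg1
  let pP := p.map (algebraMap A P)
  have hsub : (pP • ⊤ : Submodule P S) = pS.restrictScalars P := by
    rw [Ideal.smul_top_eq_map, Ideal.map_map, ← IsScalarTower.algebraMap_eq]
  have hreg2 : IsWeaklyRegular (S ⧸ (pP • ⊤ : Submodule P S)) (List.ofFn a) :=
    (((Submodule.quotEquivOfEq _ _ hsub).trans (Submodule.Quotient.restrictScalarsEquiv P pS)).isWeaklyRegular_congr _).2 hreg1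
  have : Module.Flat A S := by
    have : Module.Flat P S := IsLocalization.flat S q.primeCompl
    exact Module.Flat.trans A P S
  obtain ⟨g, hg, hs⟩ := FlatSlice.exists_sliced (R := A) q (List.ofFn a) hreg2
  have hle : I.map (algebraMap P S) ≤ (Ideal.span (Set.range a)).map (algebraMap P S) := by
    conv_lhs => rw [← hyJ]
    refine Ideal.span_le.2 ?_
    rintro _ ⟨i, rfl⟩
    refine (Ideal.mul_unit_mem_iff_mem _ (hu i)).1 ?_
    rw [← hau]
    exact Ideal.mem_map_of_mem _ (Ideal.subset_span ⟨i, rfl⟩)
  obtain ⟨s, hs'⟩ := hI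
  have : ∀ z ∈ s, ∃ t, t ∉ q ∧ t * z ∈ Ideal.span (Set.range a) := fun z hz => by
    obtain ⟨t, ht, htz⟩ := (IsLocalization.algebraMap_mem_map_algebraMap_iff q.primeCompl S _ z).1
      (hle (Ideal.mem_map_of_mem _ (hs'.le (Ideal.subset_span hz))))
    exact ⟨t, ht, htz⟩
  choose t ht htz using this
  let g' := ∏ z ∈ s.attach, t z.1 z.2
  have hg' : g' ∉ q := fun hmem => by
    obtain ⟨z, -, hz⟩ := (Ideal.IsPrime.prod_mem_iff).mp hmem
    exact ht z.1 z.2 hz
  let L := Localization.Away (g * g')
  refine ⟨g * g', fun hmem => (hq.mem_or_mem hmem).elim hg hg', a, haI, ?_, ?_⟩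
  · 
    have h1 : IsWeaklyRegular (Localization.Away g) ((List.ofFn a).map (algebraMap P (Localization.Away g))) :=
      (isWeaklyRegular_map_algebraMap_iff _ _ _).2 hs.isWeaklyRegular
    have hu : IsUnit (algebraMap P L g) :=
      isUnit_of_mul_isUnit_left (y := algebraMap P L g') (by rw [← map_mul]; exact IsLocalization.Away.algebraMap_isUnit (g * g'))
    let φ : Localization.Away g →+* L := IsLocalization.Away.lift g hu
    let _ : Algebra (Localization.Away g) L := φ.toAlgebra
    have : IsScalarTower P (Localization.Away g) L := .of_algebraMap_eq fun z => (IsLocalization.Away.lift_eq g hu z).symm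
    have : Module.Flat P L := IsLocalization.flat L (Submonoid.powers (g * g'))
    have : Module.Flat (Localization.Away g) L :=
      (Module.flat_iff_of_isLocalization (Localization.Away g) (Submonoid.powers g) L).2 inferInstance
    have h2 := h1.of_flat (S := L)
    rw [List.map_map] at h2
    rw [← RingHom.coe_comp, ← IsScalarTower.algebraMap_eq] at h2
    exact h2
  · rw [← Ideal.map_ofList, ofList_ofFn]
    refine le_antisymm ?_ (Ideal.map_mono (Ideal.span_le.2 (Set.range_subset_iff.2 haI)))
    rw [← hs', Ideal.map_span, Ideal.span_le]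
    rintro _ ⟨z, hz, rfl⟩
    have hu' : IsUnit (algebraMap P L (t z hz)) := by
      refine isUnit_of_dvd_unit (map_dvd _ ?_) (IsLocalization.Away.algebraMap_isUnit (g * g'))
      exact Dvd.dvd.mul_left (Finset.dvd_prod_of_mem (fun z : s => t z.1 z.2) (Finset.mem_attach s ⟨z, hz⟩)) g
    refine (Ideal.unit_mul_mem_iff_mem _ hu').1 ?_
    rw [← map_mul]
    exact Ideal.mem_map_of_mem _ (htz z hz)

end Nhd

/-- The quotient of a smooth algebra by a prime of the base is regular at every point over it. -/
theorem isRegularLocalRing_fibre (B S : Type u) [CommRing B] [CommRing S] [IsNoetherianRing B] [Algebra B S]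
    [Algebra.Smooth B S] (q : Ideal S) [q.IsPrime] :
    IsRegularLocalRing (Localization.AtPrime q ⧸
      (q.comap (algebraMap B S)).map (algebraMap B (Localization.AtPrime q))) := by
  set p := q.comap (algebraMap B S)
  let S' := S ⧸ p.map (algebraMap B S)
  let ψ : S →+* S' := Ideal.Quotient.mk _
  have hψ : Function.Surjective ψ := Ideal.Quotient.mk_surjective
  have hker : RingHom.ker ψ = p.map (algebraMap B S) := Ideal.mk_ker
  have hle : RingHom.ker ψ ≤ q := by
    rw [hker]; exact Ideal.map_comap_le
  let q' := q.map ψ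
  have : q'.IsPrime := Ideal.map_isPrime_of_surjective hψ hle
  have hq : q'.comap ψ = q := by
    rw [Ideal.comap_map_of_surjective ψ hψ, ← RingHom.ker_eq_comap_bot]
    exact sup_eq_left.2 hle
  have : Algebra.Smooth (B ⧸ p) S' := .of_equiv (Algebra.TensorProduct.quotIdealMapEquivQuotTensor S p).symm
  have : Algebra.IsSmoothAt (B ⧸ p) q' := by
    have := Algebra.FormallySmooth.of_isLocalization (R := S') (Rₘ := Localization.AtPrime q') q'.primeCompl
    exact Algebra.FormallySmooth.comp (B ⧸ p) S' (Localization.AtPrime q')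
  have hcomap : q'.comap (algebraMap (B ⧸ p) S') = ⊥ := by
    refine eq_bot_iff.2 fun a ha => ?_
    obtain ⟨a, rfl⟩ := Ideal.Quotient.mk_surjective a
    have : algebraMap B S a ∈ q := by
      rw [← hq, Ideal.mem_comap]
      exact ha
    exact (Submodule.Quotient.mk_eq_zero _).2 this
  have hreg : IsRegularLocalRing (Localization.AtPrime q') := by
    refine RegLocus.regular_of_smoothAt (B ⧸ p) S' q' (RegLocus.regular_congr hcomap.symm ?_)
    have hM : (⊥ : Ideal (B ⧸ p)).primeCompl = nonZeroDivisors (B ⧸ p) := by
      ext a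
      simp [Ideal.primeCompl, mem_nonZeroDivisors_iff_ne_zero]
    have : IsLocalization (⊥ : Ideal (B ⧸ p)).primeCompl (FractionRing (B ⧸ p)) := by
      rw [hM]; infer_instance
    exact IsRegularLocalRing.of_ringEquiv (R := FractionRing (B ⧸ p))
      (IsLocalization.algEquiv (⊥ : Ideal (B ⧸ p)).primeCompl (FractionRing (B ⧸ p)) (Localization.AtPrime (⊥ : Ideal (B ⧸ p)))).toRingEquiv
  obtain ⟨e⟩ := nonempty_localization_quotient q ψ hψ q' hq
  have hp : p.map (algebraMap B (Localization.AtPrime q)) = (RingHom.ker ψ).map (algebraMap _ (Localization.AtPrime q)) := by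
    rw [hker, Ideal.map_map, ← IsScalarTower.algebraMap_eq]
  rw [hp]
  exact IsRegularLocalRing.of_ringEquiv e.symm

/-- Near a point of it, the kernel of a section of a smooth algebra is generated by a regular sequence. -/
theorem exists_regular_nhd_section {B S : Type u} [CommRing B] [CommRing S] [IsNoetherianRing B] [Algebra B S]
    [Algebra.Smooth B S] (φ : S →ₐ[B] B) (q : Ideal S) [q.IsPrime] (hq : RingHom.ker φ ≤ q) :
    ∃ g ∉ q, ∃ l : List (Localization.Away g), IsWeaklyRegular (Localization.Away g) l ∧
      (RingHom.ker φ).map (algebraMap S (Localization.Away g)) = Ideal.ofList l := by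
  have : Module.Flat B S := Algebra.Smooth.flat B S
  have : IsNoetherianRing S := Algebra.FiniteType.isNoetherianRing B S
  have hsurj : Function.Surjective φ := fun b => ⟨algebraMap B S b, φ.commutes b⟩
  let E : Algebra.Extension.{u} B B := Algebra.Extension.ofSurjective φ hsurj
  have : Algebra.FormallySmooth B E.Ring := inferInstanceAs (Algebra.FormallySmooth B S)
  obtain ⟨l, hl⟩ := E.formallySmooth_iff_split_injection.1 inferInstance
  have : Module.Projective B E.Cotangent := Module.Projective.of_split _ l hl
  have hflat : ConormalFlat (RingHom.ker φ) := conormalFlat_of_flat (E := E)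
  let I := RingHom.ker φ
  have hI : I.FG := IsNoetherian.noetherian _
  have : Module.Flat B (S ⧸ I) :=
    Module.Flat.of_linearEquiv (Ideal.quotientKerAlgEquivOfSurjective hsurj).toLinearEquiv
  let T := Localization.AtPrime q
  let p := q.comap (algebraMap B S)
  let pT := p.map (algebraMap B T)
  have hJm : I.map (algebraMap S T) ≤ maximalIdeal T := Ideal.map_le_iff_le_comap.mpr fun a ha => by
    rw [Ideal.mem_comap, IsLocalization.AtPrime.to_map_mem_maximal_iff T q a]
    exact hq ha
  have hJ : I.map (algebraMap S T) ≠ ⊤ := fun h => (maximalIdeal.isMaximal T).ne_top (top_le_iff.1 (h ▸ hJm))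
  obtain ⟨r, x, hxI, hxJ, hind⟩ := exists_minimal_generators q hI hflat
  have := isRegularLocalRing_fibre B S q
  have hpm : pT ≤ maximalIdeal T := Ideal.map_le_iff_le_comap.2 fun a ha => by
    rw [Ideal.mem_comap, IsScalarTower.algebraMap_apply B S T, IsLocalization.AtPrime.to_map_mem_maximal_iff T q]
    exact ha
  obtain ⟨y, hyJ, hyreg⟩ := exists_regular_generators pT _ hJ (hI.map _) hpm _ hxJ hind
    (inter_le_mul_localization q p)
  obtain ⟨g, hg, a, -, ha, hspan⟩ := exists_koszulRegular_nhd_gen I hI q y hyJ hyreg
  exact ⟨g, hg, _, ha, hspan⟩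

end Groth.Agent.PCHom
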