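import Groth.Agent.PerfHom.Koszul
import Groth.Agent.PerfHom.Basic
import Groth.Agent.S6940
import Groth.Agent.S7000
import Groth.Agent.S7068
import Groth.Agent.DRingTorAmp.Descent
import Groth.Prelude.Def_MoreMor
import Mathlib

/-!
# Pseudo-coherent ring maps
-/

set_option autoImplicit false
set_option linter.style.haveILetI false

universe u

open CategoryTheory TensorProduct

namespace Groth.Agent.PCHom

attribute [local instance] HasDerivedCategory.standard

open DRing (IsPseudoCoherentModule')

theorem pc'_of_iso {R : Type u} [CommRing R] {K L : Dual.D R} (e : K ≅ L) (h : DRing.IsPseudoCoherent' R K) :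
    DRing.IsPseudoCoherent' R L := by
  obtain ⟨E, b, hb, hE, ⟨e'⟩⟩ := h
  exact ⟨E, b, hb, hE, ⟨e' ≪≫ e⟩⟩

theorem pcModule_congr {R : Type u} [CommRing R] {M N : Type u} [AddCommGroup M] [Module R M] [AddCommGroup N]
    [Module R N] (e : M ≃ₗ[R] N) (h : IsPseudoCoherentModule' R M) : IsPseudoCoherentModule' R N :=
  pc'_of_iso ((DerivedCategory.singleFunctor (ModuleCat.{u} R) 0).mapIso e.toModuleIso) h

theorem pcModule_of_perfect {R : Type u} [CommRing R] {M : Type u} [AddCommGroup M] [Module R M]
    (h : DRing.IsPerfectModule R M) : IsPseudoCoherentModule' R M :=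
  ((DRingTorAmp.isPerfect_iff _).1 h).1

/-- Restriction of scalars of `M[0]`. -/
theorem exists_restrict_iso (A B M : Type u) [CommRing A] [CommRing B] [Algebra A B] [AddCommGroup M] [Module B M]
    [Module A M] [IsScalarTower A B M] :
    Nonempty ((DRing.restrictD (algebraMap A B)).obj (Dual.inD B M) ≅ Dual.inD A M) :=
  ⟨((ModuleCat.restrictScalars.{u} (algebraMap A B)).mapDerivedCategorySingleFunctor 0).app (ModuleCat.of B M) ≪≫
    (DerivedCategory.singleFunctor (ModuleCat.{u} A) 0).mapIso (LinearEquiv.toModuleIso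
      ({ toFun := fun x => x, invFun := fun x => x, left_inv := fun _ => rfl, right_inv := fun _ => rfl,
         map_add' := fun _ _ => rfl, map_smul' := fun r x => algebraMap_smul B r (show M from x) } :
        ((ModuleCat.restrictScalars.{u} (algebraMap A B)).obj (ModuleCat.of B M)) ≃ₗ[A] M))⟩

/-- Along a pseudo-coherent algebra, module pseudo-coherence does not change. -/
theorem pcModule_iff (A B M : Type u) [CommRing A] [CommRing B] [Algebra A B] [AddCommGroup M] [Module B M]
    [Module A M] [IsScalarTower A B M] (hB : IsPseudoCoherentModule' A B) :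
    IsPseudoCoherentModule' B M ↔ IsPseudoCoherentModule' A M := by
  obtain ⟨e⟩ := exists_restrict_iso A B M
  exact ((S6940.result hB (Dual.inD B M) 0).2).trans ⟨pc'_of_iso e, pc'_of_iso e.symm⟩

/-- Flat base change. -/
theorem pcModule_baseChange (A B : Type u) [CommRing A] [CommRing B] [Algebra A B] [Module.Flat A B]
    (M : Type u) [AddCommGroup M] [Module A M] (N : Type u) [AddCommGroup N] [Module B N]
    (e : B ⊗[A] M ≃ₗ[B] N) (h : IsPseudoCoherentModule' A M) : IsPseudoCoherentModule' B N :=
  pcModule_congr e ((S7000.result (B := B) 0 M).2 h)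

/-- Pseudo-coherence of a module is local. -/
theorem pcModule_local {R : Type u} [CommRing R] (M : Type u) [AddCommGroup M] [Module R M] {r : ℕ} (g : Fin r → R)
    (hg : Ideal.span (Set.range g) = ⊤)
    (h : ∀ i, IsPseudoCoherentModule' (Localization.Away (g i)) (Localization.Away (g i) ⊗[R] M)) :
    IsPseudoCoherentModule' R M := by
  refine pc'_of_iso (DRingTorAmp.inDIso M).symm
    (DRingTorAmp.isPseudoCoherent'_descend (DRingTorAmp.cover_away g hg) _ fun i => ?_)
  let φ := algebraMap R (Localization.Away (g i))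
  refine pc'_of_iso ?_ (h i)
  exact DRingTorAmp.inDIso _ ≪≫ DerivedCategory.Q.mapIso
    ((HomologicalComplex.single (ModuleCat.{u} (Localization.Away (g i))) (ComplexShape.up ℤ) 0).mapIso
      (DRingKProj.extendEquiv (ModuleCat.of R M)).toModuleIso.symm ≪≫
    (((HomologicalComplex.singleMapHomologicalComplex (ModuleCat.extendScalars φ) (ComplexShape.up ℤ) 0).app
      (ModuleCat.of R M)).symm))

section Poly

variable {A : Type u} [CommRing A]

/-- A flat finitely presented algebra is pseudo-coherent over any polynomial ring mapping onto it. -/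
theorem pc_of_flat_quotient {N : ℕ} (Q : Type u) [CommRing Q] [Algebra A Q] [Module.Flat A Q]
    [Algebra.FinitePresentation A Q] (π : MvPolynomial (Fin N) A →ₐ[A] Q) (hπ : Function.Surjective π) :
    letI := π.toRingHom.toAlgebra
    IsPseudoCoherentModule' (MvPolynomial (Fin N) A) Q := by
  letI := π.toRingHom.toAlgebra
  haveI : IsScalarTower A (MvPolynomial (Fin N) A) Q := IsScalarTower.of_algebraMap_eq' π.comp_algebraMap.symm
  haveI : Module.FinitePresentation (MvPolynomial (Fin N) A) Q :=
    Module.finitePresentation_of_surjective (Algebra.linearMap (MvPolynomial (Fin N) A) Q) hπ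
      (Algebra.FinitePresentation.ker_fG_of_surjective π hπ)
  exact pcModule_of_perfect (PerfHom.isPerfectModule_of_flat (A := A) Q)

theorem transfer {N : ℕ} (Q C : Type u) [CommRing Q] [Algebra A Q] [Module.Flat A Q]
    [Algebra.FinitePresentation A Q] [CommRing C] [Algebra A C] (π : MvPolynomial (Fin N) A →ₐ[A] Q)
    (hπ : Function.Surjective π) (φ : Q →ₐ[A] C) (χ : MvPolynomial (Fin N) A →ₐ[A] C) (h : φ.comp π = χ) :
    (letI := φ.toRingHom.toAlgebra; IsPseudoCoherentModule' Q C) ↔
      (letI := χ.toRingHom.toAlgebra; IsPseudoCoherentModule' (MvPolynomial (Fin N) A) C) := by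
  letI := φ.toRingHom.toAlgebra
  letI := χ.toRingHom.toAlgebra
  letI := π.toRingHom.toAlgebra
  haveI : IsScalarTower (MvPolynomial (Fin N) A) Q C :=
    IsScalarTower.of_algebraMap_eq fun x => (AlgHom.congr_fun h x).symm
  exact pcModule_iff _ _ _ (pc_of_flat_quotient Q π hπ)

theorem surjective_append {n m : ℕ} (q : Fin m → MvPolynomial (Fin n) A) :
    Function.Surjective (MvPolynomial.aeval (R := A) (Fin.append (MvPolynomial.X : Fin n → _) q)) := by
  intro x
  exact ⟨MvPolynomial.rename (Fin.castAdd m) x, by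
    rw [MvPolynomial.aeval_rename, show (Fin.append (MvPolynomial.X : Fin n → _) q) ∘ Fin.castAdd m = MvPolynomial.X from
      funext fun i => Fin.append_left _ _ i, MvPolynomial.aeval_X_left_apply]⟩

/-- Any presentation of a pseudo-coherent ring map works. -/
theorem pc_of_presentation {C : Type u} [CommRing C] [Algebra A C] (hC : MoreMor.IsPseudoCoherentHom A C) {n : ℕ}
    (φ : MvPolynomial (Fin n) A →ₐ[A] C) (hφ : Function.Surjective φ) :
    letI := φ.toRingHom.toAlgebra
    IsPseudoCoherentModule' (MvPolynomial (Fin n) A) C := by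
  obtain ⟨m, ψ, hψ, hpc⟩ := hC
  choose q hq using fun j => hφ (ψ (MvPolynomial.X j))
  choose r hr using fun i => hψ (φ (MvPolynomial.X i))
  let π := MvPolynomial.aeval (R := A) (Fin.append (MvPolynomial.X : Fin n → _) q)
  have h1 : φ.comp π = MvPolynomial.aeval (Fin.append (fun i => φ (MvPolynomial.X i)) fun j => ψ (MvPolynomial.X j)) := by
    refine MvPolynomial.algHom_ext fun k => ?_
    show φ (π (MvPolynomial.X k)) = _
    rw [MvPolynomial.aeval_X, MvPolynomial.aeval_X]
    refine Fin.addCases (fun i => ?_) (fun j => ?_) k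
    · rw [Fin.append_left, Fin.append_left]
    · rw [Fin.append_right, Fin.append_right, hq]
  let π' := MvPolynomial.aeval (R := A) (Fin.append r (MvPolynomial.X : Fin m → _))
  have hπ' : Function.Surjective π' := fun x => ⟨MvPolynomial.rename (Fin.natAdd n) x, by
    rw [MvPolynomial.aeval_rename, show (Fin.append r (MvPolynomial.X : Fin m → _)) ∘ Fin.natAdd n = MvPolynomial.X from
      funext fun i => Fin.append_right _ _ i, MvPolynomial.aeval_X_left_apply]⟩
  have h2 : ψ.comp π' = MvPolynomial.aeval (Fin.append (fun i => φ (MvPolynomial.X i)) fun j => ψ (MvPolynomial.X j)) := by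
    refine MvPolynomial.algHom_ext fun k => ?_
    show ψ (π' (MvPolynomial.X k)) = _
    rw [MvPolynomial.aeval_X, MvPolynomial.aeval_X]
    refine Fin.addCases (fun i => ?_) (fun j => ?_) k
    · rw [Fin.append_left, Fin.append_left, hr]
    · rw [Fin.append_right, Fin.append_right]
  exact (transfer _ C π (surjective_append q) φ _ h1).2 ((transfer _ C π' hπ' ψ _ h2).1 hpc)

/-- A pseudo-coherent module over some flat finitely presented algebra gives a pseudo-coherent map. -/
theorem isPseudoCoherentHom_of_flat {C : Type u} [CommRing C] [Algebra A C] (Q : Type u) [CommRing Q] [Algebra A Q]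
    [Module.Flat A Q] [Algebra.FinitePresentation A Q] (φ : Q →ₐ[A] C) (hφ : Function.Surjective φ)
    (h : letI := φ.toRingHom.toAlgebra; IsPseudoCoherentModule' Q C) : MoreMor.IsPseudoCoherentHom A C := by
  obtain ⟨N, π, hπ⟩ := Algebra.FiniteType.iff_quotient_mvPolynomial''.1 (inferInstance : Algebra.FiniteType A Q)
  exact ⟨N, φ.comp π, hφ.comp hπ, (transfer Q C π hπ φ _ rfl).1 h⟩

/-- For a flat finitely presented algebra mapping onto a pseudo-coherent one. -/
theorem pc_of_flat {C : Type u} [CommRing C] [Algebra A C] (hC : MoreMor.IsPseudoCoherentHom A C) (Q : Type u)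
    [CommRing Q] [Algebra A Q] [Module.Flat A Q] [Algebra.FinitePresentation A Q] (φ : Q →ₐ[A] C)
    (hφ : Function.Surjective φ) : letI := φ.toRingHom.toAlgebra; IsPseudoCoherentModule' Q C := by
  obtain ⟨N, π, hπ⟩ := Algebra.FiniteType.iff_quotient_mvPolynomial''.1 (inferInstance : Algebra.FiniteType A Q)
  exact (transfer Q C π hπ φ _ rfl).2 (pc_of_presentation hC (φ.comp π) (hφ.comp hπ))

theorem isPseudoCoherentHom_congr {C D : Type u} [CommRing C] [Algebra A C] [CommRing D] [Algebra A D]
    (e : C ≃ₐ[A] D) (hC : MoreMor.IsPseudoCoherentHom A C) : MoreMor.IsPseudoCoherentHom A D := by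
  obtain ⟨n, φ, hφ, h⟩ := hC
  refine ⟨n, e.toAlgHom.comp φ, e.surjective.comp hφ, ?_⟩
  letI := φ.toRingHom.toAlgebra
  letI : Algebra (MvPolynomial (Fin n) A) D := (e.toAlgHom.comp φ).toRingHom.toAlgebra
  exact pcModule_congr ({ e.toAddEquiv with map_smul' := fun r x => map_mul e (φ r) x } :
    C ≃ₗ[MvPolynomial (Fin n) A] D) h

theorem isPseudoCoherentHom_of_smooth {C : Type u} [CommRing C] [Algebra A C] [Module.Flat A C]
    [Algebra.FinitePresentation A C] : MoreMor.IsPseudoCoherentHom A C :=
  (S7068.result A C).1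

/-- Polynomial extension of a presentation. -/
theorem pc_mvPolynomial {n m : ℕ} (B : Type u) [CommRing B] [Algebra A B] (φ : MvPolynomial (Fin n) A →ₐ[A] B)
    (h : letI := φ.toRingHom.toAlgebra; IsPseudoCoherentModule' (MvPolynomial (Fin n) A) B) :
    letI := (MvPolynomial.mapAlgHom (σ := Fin m) φ).toRingHom.toAlgebra
    IsPseudoCoherentModule' (MvPolynomial (Fin m) (MvPolynomial (Fin n) A)) (MvPolynomial (Fin m) B) := by
  letI := φ.toRingHom.toAlgebra
  let P := MvPolynomial (Fin n) A
  let R := MvPolynomial (Fin m) P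
  letI : Algebra R (MvPolynomial (Fin m) B) := (MvPolynomial.mapAlgHom (σ := Fin m) φ).toRingHom.toAlgebra
  let E : R ⊗[P] B ≃ₐ[P] MvPolynomial (Fin m) B :=
    (Algebra.TensorProduct.comm P R B).trans
      ((MvPolynomial.algebraTensorAlgEquiv (R := P) (σ := Fin m) (A := B)).restrictScalars P)
  have hr : ∀ r : R, E (r ⊗ₜ 1) = MvPolynomial.map φ.toRingHom r := fun r => by
    induction r using MvPolynomial.induction_on with
    | C a =>
      rw [MvPolynomial.map_C, show (MvPolynomial.C a : R) ⊗ₜ[P] (1 : B) = algebraMap P (R ⊗[P] B) a from rfl,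
        AlgEquiv.commutes]
      rfl
    | add p q hp hq => rw [TensorProduct.add_tmul, map_add, map_add, hp, hq]
    | mul_X p i hp =>
      rw [← mul_one (1 : B), ← Algebra.TensorProduct.tmul_mul_tmul, map_mul, map_mul, hp, MvPolynomial.map_X]
      congr 1
      show MvPolynomial.algebraTensorAlgEquiv (R := P) (A := B) ((1 : B) ⊗ₜ[P] MvPolynomial.X i) = _
      rw [MvPolynomial.algebraTensorAlgEquiv_tmul, one_smul, MvPolynomial.map_X]
  exact pcModule_baseChange P R B (MvPolynomial (Fin m) B)
    { E.toAddEquiv with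
      map_smul' := fun r x => by
        show E (r • x) = MvPolynomial.map φ.toRingHom r * E x
        rw [← hr, ← map_mul, Algebra.smul_def]
        rfl } h

end Poly

/-- Composition. -/
theorem comp (A B C : Type u) [CommRing A] [CommRing B] [CommRing C] [Algebra A B] [Algebra B C] [Algebra A C]
    [IsScalarTower A B C] (hB : MoreMor.IsPseudoCoherentHom A B) (hC : MoreMor.IsPseudoCoherentHom B C) :
    MoreMor.IsPseudoCoherentHom A C := by
  obtain ⟨n, φ, hφ, hp⟩ := hB
  obtain ⟨m, ψ, hψ, hq⟩ := hC
  let μ := MvPolynomial.mapAlgHom (σ := Fin m) φ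
  let χ : MvPolynomial (Fin m) (MvPolynomial (Fin n) A) →ₐ[A] C := (ψ.restrictScalars A).comp μ
  have hχ : Function.Surjective χ := hψ.comp (MvPolynomial.map_surjective φ.toRingHom hφ)
  refine isPseudoCoherentHom_of_flat _ χ hχ ?_
  letI := ψ.toRingHom.toAlgebra
  letI := χ.toRingHom.toAlgebra
  letI := μ.toRingHom.toAlgebra
  haveI : IsScalarTower (MvPolynomial (Fin m) (MvPolynomial (Fin n) A)) (MvPolynomial (Fin m) B) C :=
    IsScalarTower.of_algebraMap_eq fun _ => rfl
  exact (pcModule_iff _ _ _ (pc_mvPolynomial B φ hp)).1 hq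

/-- Cancellation. -/
theorem cancel (A B C : Type u) [CommRing A] [CommRing B] [CommRing C] [Algebra A B] [Algebra B C] [Algebra A C]
    [IsScalarTower A B C] (hB : MoreMor.IsPseudoCoherentHom A B) (hC : MoreMor.IsPseudoCoherentHom A C) :
    MoreMor.IsPseudoCoherentHom B C := by
  obtain ⟨n, φ, hφ, hp⟩ := hB
  obtain ⟨m, ψ₀, hψ₀, -⟩ := id hC
  let ψ : MvPolynomial (Fin m) B →ₐ[B] C := MvPolynomial.aeval fun j => ψ₀ (MvPolynomial.X j)
  have hψ : Function.Surjective ψ := fun x => by
    obtain ⟨y, rfl⟩ := hψ₀ x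
    refine ⟨MvPolynomial.map (algebraMap A B) y, ?_⟩
    rw [MvPolynomial.aeval_map_algebraMap]
    exact (AlgHom.congr_fun (MvPolynomial.aeval_unique ψ₀) y).symm
  let μ := MvPolynomial.mapAlgHom (σ := Fin m) φ
  let χ : MvPolynomial (Fin m) (MvPolynomial (Fin n) A) →ₐ[A] C := (ψ.restrictScalars A).comp μ
  have hχ : Function.Surjective χ := hψ.comp (MvPolynomial.map_surjective φ.toRingHom hφ)
  have h := pc_of_flat hC _ χ hχ
  refine ⟨m, ψ, hψ, ?_⟩
  letI := ψ.toRingHom.toAlgebra
  letI := χ.toRingHom.toAlgebra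
  letI := μ.toRingHom.toAlgebra
  haveI : IsScalarTower (MvPolynomial (Fin m) (MvPolynomial (Fin n) A)) (MvPolynomial (Fin m) B) C :=
    IsScalarTower.of_algebraMap_eq fun _ => rfl
  exact (pcModule_iff _ _ _ (pc_mvPolynomial B φ hp)).2 h

end Groth.Agent.PCHom
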