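import Groth.Agent.PCHom.Local
import Mathlib

/-!
# Flat base change and faithfully flat descent for local ring-hom properties
-/

set_option autoImplicit false
set_option linter.style.haveILetI false

universe u

open CategoryTheory Limits TensorProduct AlgebraicGeometry MorphismProperty

namespace Groth.Agent.PCHom

variable {P : MorphismProperty Scheme.{u}} {Q : ∀ {R S : Type u} [CommRing R] [CommRing S], (R →+* S) → Prop}
  [HasRingHomProperty P Q]

/-- Ring maps stable under flat base change. -/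
def FlatStable (Q : ∀ {R S : Type u} [CommRing R] [CommRing S], (R →+* S) → Prop) : Prop :=
  ∀ ⦃R T S : Type u⦄ [CommRing R] [CommRing T] [CommRing S] [Algebra R T] [Algebra R S] [Module.Flat R T],
    Q (algebraMap R S) → Q (algebraMap T (T ⊗[R] S))

include Q in
theorem pullback_fst_spec (hQ : FlatStable Q) {R T : CommRingCat.{u}} (φ : R ⟶ T) [Flat (Spec.map φ)]
    {Y : Scheme.{u}} (g : Y ⟶ Spec R) (hg : P g) : P (pullback.fst (Spec.map φ) g) := by
  wlog hY : ∃ S, Y = Spec S generalizing Y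
  · rw [IsZariskiLocalAtSource.iff_of_openCover (P := P) (Scheme.Pullback.openCoverOfRight Y.affineCover (Spec.map φ) g)]
    intro i
    have heq : pullback.fst (Spec.map φ) (Y.affineCover.f i ≫ g) =
        (Scheme.Pullback.openCoverOfRight Y.affineCover (Spec.map φ) g).f i ≫ pullback.fst (Spec.map φ) g :=
      ((pullback.lift_fst _ _ _).trans (Category.comp_id _)).symm
    exact heq ▸ this _ (IsZariskiLocalAtSource.comp hg _) ⟨_, rfl⟩
  obtain ⟨S, rfl⟩ := hY
  obtain ⟨ψ, rfl⟩ := Spec.map_surjective g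
  have hflat : φ.hom.Flat := (HasRingHomProperty.Spec_iff (P := @Flat)).1 ‹_›
  algebraize [φ.hom, ψ.hom]
  show P (pullback.fst (Spec.map (CommRingCat.ofHom (algebraMap R T))) (Spec.map (CommRingCat.ofHom (algebraMap R S))))
  rw [← pullbackSpecIso_hom_fst R T S, P.cancel_left_of_respectsIso, HasRingHomProperty.Spec_iff (P := P)]
  exact hQ ((HasRingHomProperty.Spec_iff (P := P)).1 hg)

include Q in
theorem pullback_fst_of_openImmersion {X Y S : Scheme.{u}} (ι : X ⟶ S) [IsOpenImmersion ι] (g : Y ⟶ S) (hg : P g) :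
    P (pullback.fst ι g) := by
  rw [← pullbackSymmetry_hom_comp_snd, P.cancel_left_of_respectsIso]
  exact IsZariskiLocalAtTarget.of_isPullback (IsPullback.of_hasPullback g ι) hg

include Q in
theorem pullback_fst_comp {X' X Y S : Scheme.{u}} (p : X' ⟶ X) (f : X ⟶ S) (g : Y ⟶ S) :
    P (pullback.fst (p ≫ f) g) ↔ P (pullback.fst p (pullback.fst f g)) := by
  rw [← pullbackRightPullbackFstIso_inv_fst f g p, P.cancel_left_of_respectsIso]

include Q in
theorem pullback_fst_of_flat (hQ : FlatStable Q) {X Y S : Scheme.{u}} (f : X ⟶ S) [Flat f] (g : Y ⟶ S) (hg : P g) :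
    P (pullback.fst f g) := by
  have hloc : ∀ x : X, ∃ (U : X.Opens) (V : S.Opens) (_ : U ≤ f ⁻¹ᵁ V), IsAffineOpen U ∧ IsAffineOpen V ∧ x ∈ U := by
    intro x
    obtain ⟨V, hV, hxV, -⟩ := TopologicalSpace.Opens.isBasis_iff_nbhd.mp S.isBasis_affineOpens (TopologicalSpace.Opens.mem_top (f x))
    obtain ⟨U, hU, hxU, hUV⟩ := TopologicalSpace.Opens.isBasis_iff_nbhd.mp X.isBasis_affineOpens (show x ∈ f ⁻¹ᵁ V from hxV)
    exact ⟨U, V, hUV, hU, hV, hxU⟩
  choose U V e hU hV hx using hloc
  have hcov : ⨆ x, U x = ⊤ := top_le_iff.1 fun x _ => TopologicalSpace.Opens.mem_iSup.2 ⟨x, hx x⟩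
  rw [IsZariskiLocalAtTarget.iff_of_openCover (P := P) (X.openCoverOfIsOpenCover U hcov)]
  intro x
  change P (pullback.snd (pullback.fst f g) (U x).ι)
  let φ := f.appLE (V x) (U x) (e x)
  haveI : Flat (Spec.map φ) := (HasRingHomProperty.Spec_iff (P := @Flat)).2 (f.flat_appLE (hV x) (hU x) (e x))
  have hfac : (U x).ι ≫ f = ((hU x).isoSpec.hom ≫ Spec.map φ) ≫ (hV x).fromSpec := by
    rw [Category.assoc, IsAffineOpen.SpecMap_appLE_fromSpec f (hV x) (hU x) (e x), ← IsAffineOpen.isoSpec_inv_ι,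
      Category.assoc, Iso.hom_inv_id_assoc]
  have h1 := pullback_fst_spec hQ φ _ (pullback_fst_of_openImmersion (hV x).fromSpec g hg)
  have h2 := pullback_fst_of_openImmersion (hU x).isoSpec.hom _ h1
  rw [← pullbackSymmetry_hom_comp_fst, P.cancel_left_of_respectsIso]
  refine (pullback_fst_comp (U x).ι f g).1 ?_
  rw [hfac]
  exact (pullback_fst_comp _ (hV x).fromSpec g).2 ((pullback_fst_comp _ (Spec.map φ) _).2 h2)

/-- Ring maps descending along faithfully flat maps. -/
def FFDescends (Q : ∀ {R S : Type u} [CommRing R] [CommRing S], (R →+* S) → Prop) : Prop :=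
  ∀ ⦃R T S : Type u⦄ [CommRing R] [CommRing T] [CommRing S] [Algebra R T] [Algebra R S] [Module.FaithfullyFlat R T],
    Q (algebraMap T (T ⊗[R] S)) → Q (algebraMap R S)

include Q in
theorem descend_spec (hQ : FFDescends Q) {R T : CommRingCat.{u}} (φ : R ⟶ T) [Flat (Spec.map φ)]
    [Surjective (Spec.map φ)] {Y : Scheme.{u}} (g : Y ⟶ Spec R) (hg : P (pullback.fst (Spec.map φ) g)) : P g := by
  wlog hY : ∃ S, Y = Spec S generalizing Y
  · rw [IsZariskiLocalAtSource.iff_of_openCover (P := P) Y.affineCover]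
    intro i
    have heq : pullback.fst (Spec.map φ) (Y.affineCover.f i ≫ g) =
        pullback.map _ _ _ _ (𝟙 _) (Y.affineCover.f i) (𝟙 _) (by simp) (by simp) ≫
          pullback.fst (Spec.map φ) g := ((pullback.lift_fst _ _ _).trans (Category.comp_id _)).symm
    exact this _ (heq ▸ IsZariskiLocalAtSource.comp hg _) ⟨_, rfl⟩
  obtain ⟨S, rfl⟩ := hY
  obtain ⟨ψ, rfl⟩ := Spec.map_surjective g
  have hff : φ.hom.FaithfullyFlat := by
    rw [RingHom.FaithfullyFlat.iff_flat_and_comap_surjective]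
    exact ⟨(HasRingHomProperty.Spec_iff (P := @Flat)).1 ‹_›, (Spec.map φ).surjective⟩
  algebraize [φ.hom, ψ.hom]
  replace hg : P (pullback.fst (Spec.map (CommRingCat.ofHom (algebraMap R T)))
    (Spec.map (CommRingCat.ofHom (algebraMap R S)))) := hg
  rw [← pullbackSpecIso_hom_fst R T S, P.cancel_left_of_respectsIso, HasRingHomProperty.Spec_iff (P := P)] at hg
  exact (HasRingHomProperty.Spec_iff (P := P)).2 (hQ hg)

include Q in
theorem descendsAlong (hQ : FlatStable Q) (hQ' : FFDescends Q) :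
    P.DescendsAlong (@Surjective ⊓ @Flat ⊓ @QuasiCompact : MorphismProperty Scheme.{u}) := by
  apply IsZariskiLocalAtTarget.descendsAlong
  intro R X Y f g hf h
  obtain ⟨⟨hs, hfl⟩, hqc⟩ := hf
  haveI : Surjective f := hs
  haveI : Flat f := hfl
  haveI : QuasiCompact f := hqc
  haveI : CompactSpace X := by simpa [← quasiCompact_iff_compactSpace f]
  obtain ⟨W, p, hsurj, hp, hW⟩ := X.exists_hom_isAffine_of_isZariskiLocalAtSource @IsLocalIso
  haveI : IsLocalIso p := hp
  haveI : Flat p := IsLocalIso.le_of_isZariskiLocalAtSource @Flat _ _ _ hp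
  obtain ⟨φ, hφ⟩ := Spec.map_surjective ((W.isoSpec.inv ≫ p) ≫ f)
  haveI : Flat (Spec.map φ) := hφ ▸ inferInstance
  haveI : Surjective (Spec.map φ) := hφ ▸ inferInstance
  refine descend_spec hQ' φ g ?_
  rw [hφ]
  exact (pullback_fst_comp _ f g).2 (pullback_fst_of_flat hQ _ _ h)

end Groth.Agent.PCHom

namespace Groth.Agent.PCHom

attribute [local instance] Algebra.TensorProduct.rightAlgebra

theorem pcQ_flatStable : FlatStable @PcQ.{u} := by
  intro R T S _ _ _ _ _ _ h
  exact (pcQ_algebraMap _ _).2 (baseChange (A := R) (B := S) ((pcQ_algebraMap _ _).1 h))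

theorem pfQ_flatStable : FlatStable @PfQ.{u} := by
  intro R T S _ _ _ _ _ _ h
  exact (pfQ_algebraMap _ _).2 (perfect_baseChange (A := R) (B := S) ((pfQ_algebraMap _ _).1 h))

theorem pcQ_ffDescends : FFDescends @PcQ.{u} := by
  intro R T S _ _ _ _ _ _ h
  exact (pcQ_algebraMap _ _).2 (descend (A := R) ((pcQ_algebraMap _ _).1 h))

theorem pfQ_ffDescends : FFDescends @PfQ.{u} := by
  intro R T S _ _ _ _ _ _ h
  exact (pfQ_algebraMap _ _).2 (perfect_descend (A := R) ((pfQ_algebraMap _ _).1 h))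

end Groth.Agent.PCHom
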