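import Groth.Agent.PCHom.Span
import Mathlib

/-!
# Pseudo-coherent and perfect morphisms as local ring-hom properties
-/

set_option autoImplicit false
set_option linter.style.haveILetI false

universe u

open CategoryTheory TensorProduct

namespace Groth.Agent.PCHom

attribute [local instance] HasDerivedCategory.standard

/-- Pseudo-coherent ring homomorphisms. -/
def PcQ {R S : Type u} [CommRing R] [CommRing S] (f : R →+* S) : Prop :=
  @MoreMor.IsPseudoCoherentHom R S _ _ f.toAlgebra

/-- Perfect ring homomorphisms. -/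
def PfQ {R S : Type u} [CommRing R] [CommRing S] (f : R →+* S) : Prop :=
  @MoreMor.IsPerfectHom R S _ _ f.toAlgebra

theorem pcQ_algebraMap (R S : Type u) [CommRing R] [CommRing S] [Algebra R S] :
    PcQ (algebraMap R S) ↔ MoreMor.IsPseudoCoherentHom R S := by
  rw [PcQ, show (algebraMap R S).toAlgebra = (inferInstance : Algebra R S) from Algebra.algebra_ext _ _ fun _ => rfl]

theorem pfQ_algebraMap (R S : Type u) [CommRing R] [CommRing S] [Algebra R S] :
    PfQ (algebraMap R S) ↔ MoreMor.IsPerfectHom R S := by
  rw [PfQ, show (algebraMap R S).toAlgebra = (inferInstance : Algebra R S) from Algebra.algebra_ext _ _ fun _ => rfl]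

theorem finiteType_of_pc {R S : Type u} [CommRing R] [CommRing S] [Algebra R S]
    (h : MoreMor.IsPseudoCoherentHom R S) : Algebra.FiniteType R S := by
  obtain ⟨n, φ, hφ, -⟩ := h
  exact Algebra.FiniteType.of_surjective φ hφ

theorem perfect_away {R S : Type u} [CommRing R] [CommRing S] [Algebra R S] (r : R) [IsLocalization.Away r S] :
    MoreMor.IsPerfectHom R S :=
  haveI := IsLocalization.flat S (Submonoid.powers r)
  haveI : Algebra.FinitePresentation R S := IsLocalization.Away.finitePresentation r
  S7068.result R S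

theorem isPerfectHom_of_flat_fp {R S : Type u} [CommRing R] [CommRing S] [Algebra R S] [Module.Flat R S]
    [Algebra.FinitePresentation R S] : MoreMor.IsPerfectHom R S :=
  S7068.result R S

theorem pcQ_comp {R S T : Type u} [CommRing R] [CommRing S] [CommRing T] {f : R →+* S} {g : S →+* T}
    (hf : PcQ f) (hg : PcQ g) : PcQ (g.comp f) := by
  letI := f.toAlgebra
  letI := g.toAlgebra
  letI := (g.comp f).toAlgebra
  haveI : IsScalarTower R S T := IsScalarTower.of_algebraMap_eq fun _ => rfl
  exact comp R S T hf hg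

theorem pfQ_comp {R S T : Type u} [CommRing R] [CommRing S] [CommRing T] {f : R →+* S} {g : S →+* T}
    (hf : PfQ f) (hg : PfQ g) : PfQ (g.comp f) := by
  letI := f.toAlgebra
  letI := g.toAlgebra
  letI := (g.comp f).toAlgebra
  haveI : IsScalarTower R S T := IsScalarTower.of_algebraMap_eq fun _ => rfl
  exact perfect_comp R S T hf hg

theorem pcQ_cancel {R S T : Type u} [CommRing R] [CommRing S] [CommRing T] {f : R →+* S} {g : S →+* T}
    (hf : PcQ f) (hgf : PcQ (g.comp f)) : PcQ g := by
  letI := f.toAlgebra
  letI := g.toAlgebra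
  letI := (g.comp f).toAlgebra
  haveI : IsScalarTower R S T := IsScalarTower.of_algebraMap_eq fun _ => rfl
  exact cancel R S T hf hgf

theorem pfQ_away {R S : Type u} [CommRing R] [CommRing S] [Algebra R S] (r : R) [IsLocalization.Away r S] :
    PfQ (algebraMap R S) :=
  (pfQ_algebraMap R S).2 (perfect_away r)

theorem pcQ_of_pfQ {R S : Type u} [CommRing R] [CommRing S] {f : R →+* S} (h : PfQ f) : PcQ f :=
  letI := f.toAlgebra
  h.1

theorem pcQ_targetAway : RingHom.StableUnderCompositionWithLocalizationAwayTarget @PcQ := by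
  intro R S T _ _ _ _ s _ f hf
  exact pcQ_comp hf (pcQ_of_pfQ (pfQ_away s))

theorem pfQ_targetAway : RingHom.StableUnderCompositionWithLocalizationAwayTarget @PfQ := by
  intro R S T _ _ _ _ s _ f hf
  exact pfQ_comp hf (pfQ_away s)

theorem pcQ_sourceAway : RingHom.StableUnderCompositionWithLocalizationAwaySource @PcQ := by
  intro R S T _ _ _ _ r _ f hf
  exact pcQ_comp (pcQ_of_pfQ (pfQ_away r)) hf

theorem pfQ_sourceAway : RingHom.StableUnderCompositionWithLocalizationAwaySource @PfQ := by
  intro R S T _ _ _ _ r _ f hf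
  exact pfQ_comp (pfQ_away r) hf

theorem away_pushout {R S : Type u} [CommRing R] [CommRing S] [Algebra R S] (r : R) (R' S' : Type u) [CommRing R']
    [CommRing S'] [Algebra R R'] [Algebra S S'] [Algebra R S'] [Algebra R' S'] [IsScalarTower R S S']
    [IsScalarTower R R' S'] [IsLocalization.Away r R'] [IsLocalization.Away (algebraMap R S r) S'] :
    Algebra.IsPushout R R' S S' := by
  haveI : IsLocalization (Algebra.algebraMapSubmonoid S (Submonoid.powers r)) S' := by
    rw [Algebra.algebraMapSubmonoid_powers]
    infer_instance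
  exact (Algebra.isPushout_of_isLocalization (Submonoid.powers r) R' S S').symm

theorem pcQ_localizationAwayPreserves : RingHom.LocalizationAwayPreserves @PcQ := by
  intro R S _ _ f r R' S' _ _ _ _ _ _ hf
  letI := f.toAlgebra
  letI := (IsLocalization.Away.map R' S' f r).toAlgebra
  letI := ((algebraMap S S').comp f).toAlgebra
  haveI : IsScalarTower R S S' := IsScalarTower.of_algebraMap_eq fun _ => rfl
  haveI : IsScalarTower R R' S' := IsScalarTower.of_algebraMap_eq fun x => by
    simp [RingHom.algebraMap_toAlgebra, IsLocalization.Away.map]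
  haveI : IsLocalization.Away (algebraMap R S r) S' := (inferInstance : IsLocalization.Away (f r) S')
  haveI := away_pushout (R := R) (S := S) r R' S'
  haveI : Module.Flat R R' := IsLocalization.flat R' (Submonoid.powers r)
  exact baseChange (A := R) (B := S) hf

theorem pfQ_localizationAwayPreserves : RingHom.LocalizationAwayPreserves @PfQ := by
  intro R S _ _ f r R' S' _ _ _ _ _ _ hf
  letI := f.toAlgebra
  letI := (IsLocalization.Away.map R' S' f r).toAlgebra
  letI := ((algebraMap S S').comp f).toAlgebra
  haveI : IsScalarTower R S S' := IsScalarTower.of_algebraMap_eq fun _ => rfl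
  haveI : IsScalarTower R R' S' := IsScalarTower.of_algebraMap_eq fun x => by
    simp [RingHom.algebraMap_toAlgebra, IsLocalization.Away.map]
  haveI : IsLocalization.Away (algebraMap R S r) S' := (inferInstance : IsLocalization.Away (f r) S')
  haveI := away_pushout (R := R) (S := S) r R' S'
  haveI : Module.Flat R R' := IsLocalization.flat R' (Submonoid.powers r)
  exact perfect_baseChange (A := R) (B := S) hf

theorem exists_fin_cover {S : Type u} [CommRing S] {s : Set S} (hs : Ideal.span s = ⊤) :
    ∃ (r : ℕ) (g : Fin r → S), (∀ i, g i ∈ s) ∧ Ideal.span (Set.range g) = ⊤ := by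
  obtain ⟨t, ht, h⟩ := (Ideal.span_eq_top_iff_finite s).1 hs
  refine ⟨t.card, fun i => t.equivFin.symm i, fun i => ht (t.equivFin.symm i).2, ?_⟩
  rw [show Set.range (fun i : Fin t.card => (t.equivFin.symm i : S)) = (t : Set S) from
    Set.ext fun x => ⟨fun ⟨i, hi⟩ => hi ▸ (t.equivFin.symm i).2, fun hx => ⟨t.equivFin ⟨x, hx⟩, by simp⟩⟩]
  exact h

theorem span_data {R S : Type u} [CommRing R] [CommRing S] [Algebra R S] (s : Set S) (hs : Ideal.span s = ⊤)
    (H : ∀ r : s, MoreMor.IsPseudoCoherentHom R (Localization.Away (r : S))) : Algebra.FiniteType R S :=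
  Algebra.FiniteType.of_span_eq_top_target s hs fun x hx => finiteType_of_pc (H ⟨x, hx⟩)

theorem pcQ_ofLocalizationSpanTarget : RingHom.OfLocalizationSpanTarget @PcQ := by
  intro R S _ _ f s hs H
  letI := f.toAlgebra
  have H' : ∀ r : s, MoreMor.IsPseudoCoherentHom R (Localization.Away (r : S)) := fun r => (pcQ_algebraMap _ _).1 (H r)
  haveI := span_data s hs H'
  obtain ⟨r, g, hg, hspan⟩ := exists_fin_cover hs
  exact pc_of_span g hspan fun i => H' ⟨g i, hg i⟩

theorem pfQ_ofLocalizationSpanTarget : RingHom.OfLocalizationSpanTarget @PfQ := by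
  intro R S _ _ f s hs H
  letI := f.toAlgebra
  have H' : ∀ r : s, MoreMor.IsPerfectHom R (Localization.Away (r : S)) := fun r => (pfQ_algebraMap _ _).1 (H r)
  haveI := span_data s hs fun r => (H' r).1
  obtain ⟨r, g, hg, hspan⟩ := exists_fin_cover hs
  exact perfect_of_span g hspan fun i => H' ⟨g i, hg i⟩

theorem pcQ_isLocal : RingHom.PropertyIsLocal @PcQ :=
  ⟨pcQ_localizationAwayPreserves, pcQ_ofLocalizationSpanTarget,
    pcQ_ofLocalizationSpanTarget.ofLocalizationSpan pcQ_sourceAway, pcQ_targetAway⟩

theorem pfQ_isLocal : RingHom.PropertyIsLocal @PfQ :=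
  ⟨pfQ_localizationAwayPreserves, pfQ_ofLocalizationSpanTarget,
    pfQ_ofLocalizationSpanTarget.ofLocalizationSpan pfQ_sourceAway, pfQ_targetAway⟩

open AlgebraicGeometry

/-- Pseudo-coherent morphisms as a morphism property. -/
abbrev pcMor : MorphismProperty Scheme.{u} := fun _ _ f => MoreMor.IsPseudoCoherentMor f

/-- Perfect morphisms as a morphism property. -/
abbrev pfMor : MorphismProperty Scheme.{u} := fun _ _ f => MoreMor.IsPerfectMor f

instance hasRingHomProperty_pseudoCoherent : HasRingHomProperty pcMor.{u} PcQ where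
  isLocal_ringHomProperty := pcQ_isLocal
  eq_affineLocally' := by
    ext X Y f
    rw [affineLocally_iff_affineOpens_le]
    exact ⟨fun h U V e => h V.1 U.1 V.2 U.2 e, fun h U V hU hV e => h ⟨V, hV⟩ ⟨U, hU⟩ e⟩

instance hasRingHomProperty_perfect : HasRingHomProperty pfMor.{u} PfQ where
  isLocal_ringHomProperty := pfQ_isLocal
  eq_affineLocally' := by
    ext X Y f
    rw [affineLocally_iff_affineOpens_le]
    exact ⟨fun h U V e => h V.1 U.1 V.2 U.2 e, fun h U V hU hV e => h ⟨V, hV⟩ ⟨U, hU⟩ e⟩

end Groth.Agent.PCHom
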