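import Groth.Agent.PCHom.SmoothSection
import Groth.Prelude.Def_Mor2
import Mathlib

/-!
# The diagonal of a separated smooth morphism is a regular immersion
-/

set_option autoImplicit false
set_option linter.style.haveILetI false

universe u

open CategoryTheory Limits AlgebraicGeometry RingTheory.Sequence

namespace Groth.Agent.PCHom

/-- A section of a smooth morphism, if a closed immersion, is a regular closed immersion. -/
theorem isRegularClosedImmersion_section {X P : Scheme.{u}} (π : P ⟶ X) (s : X ⟶ P) [Smooth π]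
    [IsLocallyNoetherian X] [IsClosedImmersion s] (hs : s ≫ π = 𝟙 X) : Mor2.IsRegularClosedImmersion s := by
  refine ⟨inferInstance, fun x => ?_⟩
  obtain ⟨U, hU, hxU, -⟩ := TopologicalSpace.Opens.isBasis_iff_nbhd.1 X.isBasis_affineOpens
    (TopologicalSpace.Opens.mem_top x)
  have hπs : ∀ y, π (s y) = y := fun y => by rw [← Scheme.Hom.comp_apply, hs]; rfl
  obtain ⟨W₀, hW₀, hsW₀, hW₀U⟩ := TopologicalSpace.Opens.isBasis_iff_nbhd.1 P.isBasis_affineOpens
    (show s x ∈ π ⁻¹ᵁ U by show π (s x) ∈ U; rw [hπs]; exact hxU)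
  obtain ⟨b, hbW, hxb⟩ := hU.exists_basicOpen_le (V := s ⁻¹ᵁ W₀) ⟨x, hsW₀⟩ hxU
  let V := X.basicOpen b
  have hV : IsAffineOpen V := hU.basicOpen b
  let W := P.basicOpen (π.appLE U W₀ hW₀U b)
  have hW : IsAffineOpen W := hW₀.basicOpen _
  have hWeq : W = W₀ ⊓ π ⁻¹ᵁ V := Scheme.basicOpen_appLE ..
  have e1 : W ≤ π ⁻¹ᵁ V := hWeq.trans_le inf_le_right
  have e2 : V ≤ s ⁻¹ᵁ W := fun y hy => by
    show s y ∈ W
    rw [hWeq]
    exact ⟨hbW hy, show π (s y) ∈ V by rw [hπs]; exact hy⟩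
  have e3 : s ⁻¹ᵁ W ≤ V := fun y hy => by
    rw [← hπs y]
    exact e1 hy
  have hsm := π.smooth_appLE hV hW e1
  letI : Algebra Γ(X, V) Γ(P, W) := (π.appLE V W e1).hom.toAlgebra
  haveI : Algebra.Smooth Γ(X, V) Γ(P, W) := hsm
  haveI : IsNoetherianRing Γ(X, V) := IsLocallyNoetherian.component_noetherian ⟨V, hV⟩
  have hφ : π.appLE V W e1 ≫ s.appLE W V e2 = 𝟙 Γ(X, V) := by
    rw [Scheme.Hom.appLE_comp_appLE]
    simp only [hs]
    rw [show (𝟙 X : X ⟶ X).appLE V V _ = X.presheaf.map (homOfLE (le_refl V)).op from Category.id_comp _]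
    exact (congrArg X.presheaf.map (Subsingleton.elim _ _)).trans (X.presheaf.map_id _)
  let φ : Γ(P, W) →ₐ[Γ(X, V)] Γ(X, V) :=
    { (s.appLE W V e2).hom with commutes' := fun c => congr(($hφ).hom c) }
  have hkerW : s.ker.ideal ⟨W, hW⟩ = RingHom.ker φ := by
    rw [Scheme.Hom.ker_apply]
    ext z
    simp only [RingHom.mem_ker]
    change (s.app W).hom z = 0 ↔ (s.appLE W V e2).hom z = 0
    rw [Scheme.Hom.appLE]
    change _ ↔ (X.presheaf.map (homOfLE e2).op).hom ((s.app W).hom z) = 0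
    exact (map_eq_zero_iff _ (ConcreteCategory.bijective_of_isIso
      (X.presheaf.map (eqToHom (le_antisymm e2 e3)).op)).injective).symm
  let m : Ideal Γ(P, W) := ((IsLocalRing.maximalIdeal (X.presheaf.stalk x)).comap
    (X.presheaf.germ V x hxb).hom).comap φ
  haveI : m.IsPrime := Ideal.IsPrime.comap φ
  obtain ⟨g, hg, l, hl, hspan⟩ := exists_regular_nhd_section φ m fun z hz => by
    simp only [m, Ideal.mem_comap, RingHom.mem_ker.1 hz, map_zero]
    exact Ideal.zero_mem _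
  let W' := P.basicOpen g
  have hW' : IsAffineOpen W' := hW.basicOpen g
  have hxg : s x ∈ W' := by
    have h1 : x ∈ X.basicOpen (φ g) := (Scheme.mem_basicOpen _ _ x hxb).2
      (IsLocalRing.notMem_maximalIdeal.1 hg)
    have h2 : X.basicOpen (φ g) = V ⊓ s ⁻¹ᵁ P.basicOpen g := Scheme.basicOpen_appLE ..
    exact (h2 ▸ h1).2
  refine ⟨W', hW', hxg, ?_⟩
  haveI : IsLocalization.Away g Γ(P, W') := hW.isLocalization_basicOpen g
  let e := IsLocalization.algEquiv (Submonoid.powers g) (Localization.Away g) Γ(P, W')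
  have hker' : s.ker.ideal ⟨W', hW'⟩ = (RingHom.ker φ).map (algebraMap Γ(P, W) Γ(P, W')) := by
    rw [← hkerW]
    exact (s.ker.map_ideal (U := P.affineBasicOpen g (U := ⟨W, hW⟩)) (V := ⟨W, hW⟩) (P.basicOpen_le g)).symm
  have hkerl : s.ker.ideal ⟨W', hW'⟩ = Ideal.ofList (l.map e) := by
    rw [hker', ← AlgHom.comp_algebraMap e.toAlgHom, ← Ideal.map_map, hspan, Ideal.map_ofList]
    rfl
  refine ⟨l.map e, ⟨?_, ?_⟩, hkerl⟩
  · letI : Algebra (Localization.Away g) Γ(P, W') := e.toRingEquiv.toRingHom.toAlgebra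
    haveI : Module.Flat (Localization.Away g) Γ(P, W') :=
      RingHom.flat_algebraMap_iff.1 (RingHom.Flat.of_bijective e.bijective)
    exact hl.of_flat (S := Γ(P, W'))
  · rw [smul_eq_mul, Ideal.mul_top, ← hkerl]
    intro h
    have h1 : (1 : Γ(P, W')) ∈ s.ker.ideal ⟨W', hW'⟩ := h ▸ Submodule.mem_top
    rw [Scheme.Hom.ker_apply, RingHom.mem_ker, map_one] at h1
    haveI : Nontrivial Γ(X, s ⁻¹ᵁ W') :=
      (X.presheaf.germ (s ⁻¹ᵁ W') x hxg).hom.domain_nontrivial
    exact one_ne_zero h1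

/-- The diagonal of a smooth separated morphism is a regular closed immersion. -/
theorem isRegularClosedImmersion_diagonal {X Y : Scheme.{u}} (f : X ⟶ Y) [Smooth f] [IsSeparated f]
    [IsLocallyNoetherian X] : Mor2.IsRegularClosedImmersion (pullback.diagonal f) :=
  isRegularClosedImmersion_section (pullback.fst f f) (pullback.diagonal f) (pullback.diagonal_fst f)

end Groth.Agent.PCHom
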