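import Groth.Agent.PCHom.Basic
import Groth.Agent.DRingTorAmp.TorDim
import Groth.Agent.DRingTorAmp.Restrict

/-!
# Perfect ring maps
-/

set_option autoImplicit false
set_option linter.style.haveILetI false

universe u

open CategoryTheory TensorProduct

namespace Groth.Agent.PCHom

attribute [local instance] HasDerivedCategory.standard

/-- Finite tor dimension is transitive along a ring map of finite tor dimension. -/
theorem hasFiniteTorDim_trans (A B M : Type u) [CommRing A] [CommRing B] [Algebra A B] [AddCommGroup M] [Module B M]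
    [Module A M] [IsScalarTower A B M] (hB : DRing.HasFiniteTorDim A B) (hM : DRing.HasFiniteTorDim B M) :
    DRing.HasFiniteTorDim A M := by
  obtain ⟨c, hc⟩ := hB
  obtain ⟨d, hd⟩ := hM
  refine ⟨d + c, (DRingTorAmp.hasTorDimLE_iff _ _).2 ?_⟩
  have hc' : letI := (algebraMap A B).toAlgebra; DRing.HasTorAmplitudeIn A (-(c : ℤ)) 0 (Dual.inD A B) := by
    have e : (algebraMap A B).toAlgebra = (inferInstance : Algebra A B) := Algebra.algebra_ext _ _ fun _ => rfl
    rw [e]
    exact (DRingTorAmp.hasTorDimLE_iff _ _).1 hc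
  obtain ⟨e⟩ := exists_restrict_iso A B M
  obtain ⟨E, h1, h2, ⟨e'⟩⟩ := DRingTorAmp.torAmp_restrict (algebraMap A B) hc' ((DRingTorAmp.hasTorDimLE_iff _ _).1 hd)
  exact ⟨E, fun i hi => h1 i (by omega), h2, ⟨e' ≪≫ e⟩⟩

theorem hasFiniteTorDim_of_flat (A M : Type u) [CommRing A] [AddCommGroup M] [Module A M] [Module.Flat A M] :
    DRing.HasFiniteTorDim A M :=
  ⟨0, FlatFibrePD.hasTorDimLE_zero_of_flat⟩

theorem hasFiniteTorDim_congr {A : Type u} [CommRing A] {M N : Type u} [AddCommGroup M] [Module A M] [AddCommGroup N]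
    [Module A N] (e : M ≃ₗ[A] N) (h : DRing.HasFiniteTorDim A M) : DRing.HasFiniteTorDim A N := by
  obtain ⟨d, hd⟩ := h
  obtain ⟨E, h1, h2, ⟨e'⟩⟩ := (DRingTorAmp.hasTorDimLE_iff _ _).1 hd
  exact ⟨d, (DRingTorAmp.hasTorDimLE_iff _ _).2
    ⟨E, h1, h2, ⟨e' ≪≫ (DerivedCategory.singleFunctor (ModuleCat.{u} A) 0).mapIso e.toModuleIso⟩⟩⟩

theorem isPerfectHom_congr {A C D : Type u} [CommRing A] [CommRing C] [Algebra A C] [CommRing D] [Algebra A D]
    (e : C ≃ₐ[A] D) (hC : MoreMor.IsPerfectHom A C) : MoreMor.IsPerfectHom A D :=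
  ⟨isPseudoCoherentHom_congr e hC.1, hasFiniteTorDim_congr e.toLinearEquiv hC.2⟩

/-- Composition of perfect ring maps. -/
theorem perfect_comp (A B C : Type u) [CommRing A] [CommRing B] [CommRing C] [Algebra A B] [Algebra B C] [Algebra A C]
    [IsScalarTower A B C] (hB : MoreMor.IsPerfectHom A B) (hC : MoreMor.IsPerfectHom B C) :
    MoreMor.IsPerfectHom A C :=
  ⟨comp A B C hB.1 hC.1, hasFiniteTorDim_trans A B C hB.2 hC.2⟩

/-- A surjection with perfect target is a perfect ring map. -/
theorem isPerfectHom_of_surjective (A B : Type u) [CommRing A] [CommRing B] [Algebra A B]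
    (h : Function.Surjective (algebraMap A B)) (hB : DRing.IsPerfectModule A B) : MoreMor.IsPerfectHom A B := by
  refine ⟨isPseudoCoherentHom_of_flat A (Algebra.ofId A B) h ?_, PerfHom.hasFiniteTorDim_of_perfect (B := A) hB⟩
  have e : (Algebra.ofId A B).toRingHom.toAlgebra = (inferInstance : Algebra A B) :=
    Algebra.algebra_ext _ _ fun _ => rfl
  rw [e]
  exact pcModule_of_perfect hB

/-- A presentation of a perfect ring map is a perfect module. -/
theorem perfect_of_presentation {A C : Type u} [CommRing A] [CommRing C] [Algebra A C] (hC : MoreMor.IsPerfectHom A C)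
    {n : ℕ} (φ : MvPolynomial (Fin n) A →ₐ[A] C) (hφ : Function.Surjective φ) :
    letI := φ.toRingHom.toAlgebra
    DRing.IsPerfectModule (MvPolynomial (Fin n) A) C := by
  letI := φ.toRingHom.toAlgebra
  haveI : IsScalarTower A (MvPolynomial (Fin n) A) C := IsScalarTower.of_algebraMap_eq' φ.comp_algebraMap.symm
  obtain ⟨d, hd⟩ := hC.2
  exact PerfHom.isPerfectModule_of_torDim d C (pc_of_presentation hC.1 φ hφ) hd

end Groth.Agent.PCHom
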