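import Groth.Agent.PCHom.Local
import Groth.Agent.DCohBridge.TildeLocal
import Groth.Agent.QCohPull.Affine
import Groth.Prelude.Def_MoreMor
import Mathlib

/-!
# Perfect closed immersions push the structure sheaf to a perfect object
-/

set_option autoImplicit false
set_option linter.style.haveILetI false
set_option backward.isDefEq.respectTransparency false

universe u

open CategoryTheory AlgebraicGeometry Opposite

namespace Groth.Agent.PCHom

attribute [local instance] HasDerivedCategory.standard

/-- The target of a perfect surjection is a perfect module. -/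
theorem perfectModule_of_surjective (A B : Type u) [CommRing A] [CommRing B] [Algebra A B]
    (hs : Function.Surjective (algebraMap A B)) (h : MoreMor.IsPerfectHom A B) : DRing.IsPerfectModule A B := by
  let φ : MvPolynomial (Fin 0) A →ₐ[A] B := MvPolynomial.aeval finZeroElim
  have hφ : Function.Surjective φ := fun x => by
    obtain ⟨a, rfl⟩ := hs x
    exact ⟨MvPolynomial.C a, MvPolynomial.aeval_C _ _⟩
  have hp := perfect_of_presentation h φ hφ
  let P := MvPolynomial (Fin 0) A
  letI : Algebra P B := φ.toRingHom.toAlgebra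
  haveI : IsScalarTower A P B := IsScalarTower.of_algebraMap_eq' φ.comp_algebraMap.symm
  haveI : Module.Finite A P := Module.Finite.equiv (MvPolynomial.isEmptyAlgEquiv A (Fin 0)).toLinearEquiv.symm
  have hA : DRing.IsPerfectModule A P := DRingAmp.isPerfectModule_projective P
  obtain ⟨e⟩ := exists_restrict_iso A P B
  refine PerfHom.isPerfect_of_iso e (DRingTorAmp.isPerfect_restrict (algebraMap A P) ?_ hp)
  rw [show (algebraMap A P).toAlgebra = (inferInstance : Algebra A P) from Algebra.algebra_ext _ _ fun _ => rfl]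
  exact hA

/-- Perfectness descends from an open chart. -/
theorem perfAt_of_restrictD {X W : Scheme.{u}} (j : W ⟶ X) [IsOpenImmersion j] (K : DCoh.D X) (w : W)
    (h : DCohBridge.PerfAt ((DCoh.restrictD j).obj K) w) : DCohBridge.PerfAt K (j w) := by
  obtain ⟨V, k, _, v, E, hv, hE, ⟨e⟩⟩ := h
  refine ⟨V, k ≫ j, inferInstance, v, E, ?_, hE, ⟨DCohBridge.compObjIso k j K ≪≫ e⟩⟩
  rw [Scheme.Hom.comp_apply]
  exact congrArg _ hv

theorem isPerfect_push_structureModule {Z X : Scheme.{u}} (i : Z ⟶ X) [IsClosedImmersion i]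
    (hi : MoreMor.IsPerfectMor i) :
    DCoh.IsPerfect (DCoh.inD X ((Coh.push i).obj (Coh.structureModule Z))) := by
  rw [DCohBridge.isPerfect_iff]
  intro x
  obtain ⟨V, hV, hxV, -⟩ := TopologicalSpace.Opens.isBasis_iff_nbhd.1 X.isBasis_affineOpens
    (TopologicalSpace.Opens.mem_top x)
  obtain ⟨p, rfl⟩ : x ∈ Set.range hV.fromSpec := by rw [hV.range_fromSpec]; exact hxV
  refine perfAt_of_restrictD hV.fromSpec _ p ?_
  let M : X.Modules := (Coh.push i).obj (Coh.structureModule Z)
  haveI := TensorMod.isQCoh_structureModule Z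
  haveI : M.IsQuasicoherent := QCohBase.isQuasicoherent_pushforward _ i
  haveI hi' : IsIso (M.restrict hV.fromSpec).fromTildeΓ := inferInstance
  let A := Γ(X, V)
  let N : ModuleCat.{u} A := ModuleCat.of A Γ(M, V)
  let e1 : M.restrict hV.fromSpec ≅ (tilde.functor A).obj N :=
    (@asIso _ _ _ _ _ hi').symm ≪≫ (tilde.functor A).mapIso (LinearEquiv.toModuleIso (QCohBase.sectionsEquiv M hV))
  let e2 : (DCoh.restrictD hV.fromSpec).obj (DCoh.inD X M) ≅
      (DCoh.tildeD A).obj (Dual.inD A Γ(M, V)) :=
    ((Scheme.Modules.restrictFunctor hV.fromSpec).mapDerivedCategorySingleFunctor 0).app M ≪≫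
      (DerivedCategory.singleFunctor (Spec A).Modules 0).mapIso e1 ≪≫
        (((tilde.functor A).mapDerivedCategorySingleFunctor 0).app N).symm
  have hperf : DRing.IsPerfectModule A Γ(M, V) := by
    letI : Algebra A Γ(Z, i ⁻¹ᵁ V) := (i.app V).hom.toAlgebra
    refine PerfHom.isPerfectModule_congr
      ({ AddEquiv.refl _ with map_smul' := fun _ _ => rfl } : Γ(Z, i ⁻¹ᵁ V) ≃ₗ[A] Γ(M, V)) ?_
    refine perfectModule_of_surjective _ _ (i.app_surjective V hV) ?_
    have := hi (i ⁻¹ᵁ V) V (hV.preimage i) hV le_rfl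
    rwa [Scheme.Hom.appLE_eq_app] at this
  exact (DCohBridge.isPerfect_iff _).1
    (DCohBridge.isPerfect_of_iso e2.symm ((DCohBridge.isPerfect_tildeD_iff (A := A) _).2 hperf)) p

end Groth.Agent.PCHom
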