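import Groth.Agent.PCHom.Local
import Groth.Agent.PCHom.PushPerfect
import Groth.Agent.PCHom.BaseChange
import Groth.Agent.PerfHom.Basic
import Groth.Agent.Rodicio.Smooth
import Mathlib

/-!
# Flat with perfect diagonal implies smooth
-/

set_option autoImplicit false
set_option linter.style.haveILetI false

universe u

open CategoryTheory Limits TensorProduct AlgebraicGeometry

namespace Groth.Agent.PCHom

attribute [local instance] HasDerivedCategory.standard

/-- Localising a perfect quotient. -/
theorem perfectModule_quotient_baseChange {E B T C : Type u} [CommRing E] [CommRing B] [CommRing T] [CommRing C]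
    (ε : E →+* B) (j : E →+* T) (μ : T →+* C) (i : B →+* C) (hj : j.Flat) (hcomm : μ.comp j = i.comp ε)
    (hε : Function.Surjective ε) (hμ : Function.Surjective μ) (hker : RingHom.ker μ ≤ (RingHom.ker ε).map j)
    (h : letI := ε.toAlgebra; DRing.IsPerfectModule E B) :
    letI := μ.toAlgebra; DRing.IsPerfectModule T C := by
  algebraize [ε, j, μ, i, μ.comp j]
  haveI : IsScalarTower E B C := .of_algebraMap_eq fun e => RingHom.congr_fun hcomm e
  let ν : T ⊗[E] B →ₐ[T] C :=
    Algebra.TensorProduct.lift (Algebra.ofId T C) (IsScalarTower.toAlgHom E B C) fun _ _ => Commute.all _ _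
  have hν : ∀ (t : T) (b : B), ν (t ⊗ₜ[E] b) = algebraMap T C t * algebraMap B C b := fun t b =>
    Algebra.TensorProduct.lift_tmul _ _ _ t b
  have hone : ∀ z : T ⊗[E] B, ∃ t : T, z = t ⊗ₜ[E] (1 : B) := by
    intro z
    induction z using TensorProduct.induction_on with
    | zero => exact ⟨0, (TensorProduct.zero_tmul _ _).symm⟩
    | add x y hx hy =>
      obtain ⟨s, rfl⟩ := hx
      obtain ⟨t, rfl⟩ := hy
      exact ⟨s + t, (TensorProduct.add_tmul _ _ _).symm⟩
    | tmul t b =>
      obtain ⟨e, rfl⟩ := hε b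
      exact ⟨e • t, by rw [TensorProduct.smul_tmul, Algebra.smul_def, mul_one]; rfl⟩
  have hzero : ∀ t ∈ (RingHom.ker ε).map j, t ⊗ₜ[E] (1 : B) = 0 := by
    intro t ht
    rw [show (t ⊗ₜ[E] (1 : B)) = (Algebra.TensorProduct.includeLeftRingHom : T →+* T ⊗[E] B) t from rfl]
    refine RingHom.mem_ker.1 (Ideal.map_le_iff_le_comap.2 (fun e he => ?_) ht)
    rw [Ideal.mem_comap, RingHom.mem_ker]
    change algebraMap E T e ⊗ₜ[E] (1 : B) = 0
    rw [Algebra.algebraMap_eq_smul_one, TensorProduct.smul_tmul, Algebra.smul_def, mul_one,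
      show algebraMap E B e = 0 from he, TensorProduct.tmul_zero]
  have hbij : Function.Bijective ν := by
    refine ⟨(injective_iff_map_eq_zero ν).2 fun z hz => ?_, fun c => ?_⟩
    · obtain ⟨t, rfl⟩ := hone z
      rw [hν, map_one, mul_one] at hz
      exact hzero t (hker hz)
    · obtain ⟨t, rfl⟩ := hμ c
      exact ⟨t ⊗ₜ 1, by rw [hν, map_one, mul_one]; rfl⟩
  exact perfectModule_baseChange E T B C (LinearEquiv.ofBijective ν.toLinearMap hbij) h

variable {A B : Type u} [CommRing A] [CommRing B] [Algebra A B]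

/-- Flat of finite type with perfect multiplication map is smooth. -/
theorem smooth_of_perfect_lmul [IsNoetherianRing A] [Algebra.FiniteType A B] [Module.Flat A B]
    (h : PfQ (Algebra.TensorProduct.lmul' (S := B) A).toRingHom) : Algebra.Smooth A B := by
  let ε : B ⊗[A] B →+* B := (Algebra.TensorProduct.lmul' (S := B) A).toRingHom
  have hmul : ∀ x y : B, ε (x ⊗ₜ[A] y) = x * y := fun x y =>
    Algebra.TensorProduct.lmul'_apply_tmul x y
  have hε : Function.Surjective ε := fun b => ⟨b ⊗ₜ 1, by rw [hmul, mul_one]⟩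
  have hperf : letI := ε.toAlgebra; DRing.IsPerfectModule (B ⊗[A] B) B := by
    letI := ε.toAlgebra
    exact perfectModule_of_surjective (B ⊗[A] B) B hε ((pfQ_algebraMap (B ⊗[A] B) B).1 h)
  haveI : Algebra.FinitePresentation A B := Algebra.FinitePresentation.of_finiteType.1 inferInstance
  refine ⟨Algebra.smoothLocus_eq_univ_iff.1 (Set.eq_univ_iff_forall.2 fun q => ?_), inferInstance⟩
  let Q := q.asIdeal
  let p := Q.comap (algebraMap A B)
  let Bq := Localization.AtPrime Q
  let Ap := Localization.AtPrime p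
  letI : Algebra Ap Bq := (Localization.localRingHom p Q (algebraMap A B) rfl).toAlgebra
  haveI : IsScalarTower A Ap Bq := .of_algebraMap_eq fun a =>
    ((Localization.localRingHom_to_map p Q (algebraMap A B) rfl a).trans
      (IsScalarTower.algebraMap_apply A B Bq a).symm).symm
  haveI : IsLocalHom (algebraMap Ap Bq) := Localization.isLocalHom_localRingHom p Q (algebraMap A B) rfl
  haveI : Algebra.EssFiniteType A Bq := Algebra.EssFiniteType.comp A B Bq
  haveI : Algebra.EssFiniteType Ap Bq := Algebra.EssFiniteType.of_comp A Ap Bq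
  haveI : Module.Flat A Bq := Module.Flat.trans A B Bq
  haveI : Module.Flat Ap Bq := (Module.flat_iff_of_isLocalization Ap p.primeCompl Bq).2 inferInstance
  let T := Bq ⊗[Ap] Bq
  let i : B →ₐ[A] Bq := IsScalarTower.toAlgHom A B Bq
  have hi : i.Flat := RingHom.flat_algebraMap_iff.2 inferInstance
  let j : B ⊗[A] B →+* T := (Algebra.TensorProduct.mapOfCompatibleSMul Ap A Bq Bq Bq).toRingHom.comp
    (Algebra.TensorProduct.map i i).toRingHom
  have hj : ∀ x y : B, j (x ⊗ₜ[A] y) = algebraMap B Bq x ⊗ₜ[Ap] algebraMap B Bq y := fun x y => rfl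
  have hjflat : j.Flat :=
    RingHom.Flat.comp (RingHom.Flat.tensorProductMap hi hi) (RingHom.Flat.of_bijective
      (Algebra.TensorProduct.equivOfCompatibleSMul A Ap Bq Bq Bq).symm.bijective)
  let μ : T →+* Bq := (Algebra.TensorProduct.lmul' (S := Bq) Ap).toRingHom
  have hmulT : ∀ x y : Bq, μ (x ⊗ₜ[Ap] y) = x * y := fun x y =>
    Algebra.TensorProduct.lmul'_apply_tmul x y
  have hcomm : μ.comp j = (algebraMap B Bq).comp ε := by
    refine RingHom.ext fun e => ?_
    induction e using TensorProduct.induction_on with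
    | zero => simp only [map_zero]
    | add x y hx hy => simp only [map_add, hx, hy]
    | tmul x y =>
      change μ (algebraMap B Bq x ⊗ₜ[Ap] algebraMap B Bq y) = algebraMap B Bq (ε (x ⊗ₜ[A] y))
      rw [hmulT, hmul, map_mul]
  have hker : RingHom.ker μ ≤ (RingHom.ker ε).map j := by
    intro t ht
    let π := Ideal.Quotient.mk ((RingHom.ker ε).map j)
    let L : Bq →+* _ := π.comp (Algebra.TensorProduct.includeLeftRingHom : Bq →+* T)
    let R : Bq →+* _ := π.comp (Algebra.TensorProduct.includeRight : Bq →ₐ[Ap] T).toRingHom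
    have hLR : L = R := by
      refine IsLocalization.ringHom_ext Q.primeCompl (RingHom.ext fun b => ?_)
      change π (algebraMap B Bq b ⊗ₜ[Ap] (1 : Bq)) = π ((1 : Bq) ⊗ₜ[Ap] algebraMap B Bq b)
      rw [← map_one (algebraMap B Bq), ← hj, ← hj, Ideal.Quotient.eq, ← map_sub]
      exact Ideal.mem_map_of_mem _ (by rw [RingHom.mem_ker, map_sub, hmul, hmul, mul_one, one_mul, sub_self])
    have hsec : ∀ t : T, L (μ t) = π t := by
      intro t
      induction t using TensorProduct.induction_on with
      | zero => simp only [map_zero]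
      | add x y hx hy => simp only [map_add, hx, hy]
      | tmul x y =>
        rw [hmulT, map_mul]
        conv_lhs => arg 2; rw [hLR]
        change π (x ⊗ₜ 1) * π (1 ⊗ₜ y) = _
        rw [← map_mul, Algebra.TensorProduct.tmul_mul_tmul, mul_one, one_mul]
    rw [← Ideal.Quotient.eq_zero_iff_mem]
    change π t = 0
    rw [← hsec, RingHom.mem_ker.1 ht, map_zero]
  letI : Algebra T Bq := μ.toAlgebra
  have hsT : Function.Surjective μ := fun b => ⟨b ⊗ₜ 1, by rw [hmulT, mul_one]⟩
  have hperfT : DRing.IsPerfectModule T Bq :=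
    perfectModule_quotient_baseChange ε j μ (algebraMap B Bq) hjflat hcomm hε hsT hker hperf
  have htor : DRing.HasFiniteTorDim T Bq := PerfHom.hasFiniteTorDim_of_perfect (A := T) (B := T) hperfT
  obtain ⟨C, _, _, _, _, q', _, hC, hloc⟩ := Rodicio.exists_smooth_localization hmulT htor
  haveI : Algebra.FormallySmooth C Bq := Algebra.FormallySmooth.of_isLocalization q'.primeCompl
  haveI : Algebra.FormallySmooth Ap Bq := Algebra.FormallySmooth.comp Ap C Bq
  haveI : Algebra.FormallySmooth A Ap := Algebra.FormallySmooth.of_isLocalization p.primeCompl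
  exact Algebra.FormallySmooth.comp A Ap Bq

end Groth.Agent.PCHom
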