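import Groth.Agent.PCHom.DiagRegular
import Groth.Agent.RegLocus.Fiber

/-!
# Sections of smooth morphisms are regular immersions, without Noetherian hypotheses
-/

set_option autoImplicit false
set_option linter.style.haveILetI false

noncomputable section

universe u

open CategoryTheory Limits AlgebraicGeometry IsLocalRing RingTheory.Sequence

namespace Groth.Agent.PCHom

open NLAmp

open scoped TensorProduct

/-- The fibre of a smooth algebra is regular at every point. -/
theorem isRegularLocalRing_fibre' (B S : Type u) [CommRing B] [CommRing S] [Algebra B S]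
    [Algebra.Smooth B S] (q : Ideal S) [q.IsPrime] :
    IsRegularLocalRing (Localization.AtPrime q ⧸
      (q.comap (algebraMap B S)).map (algebraMap B (Localization.AtPrime q))) := by
  obtain ⟨P, hP, ⟨e⟩⟩ := RegLocus.exists_fibre_localization B S q
  let p := q.comap (algebraMap B S)
  have : Algebra.IsSmoothAt p.ResidueField P := by
    have := Algebra.FormallySmooth.of_isLocalization (R := p.Fiber S) (Rₘ := Localization.AtPrime P) P.primeCompl
    exact Algebra.FormallySmooth.comp p.ResidueField (p.Fiber S) (Localization.AtPrime P)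
  have hcomap : P.comap (algebraMap p.ResidueField (p.Fiber S)) = ⊥ :=
    (Ideal.eq_bot_or_top _).resolve_right (Ideal.IsPrime.ne_top inferInstance)
  have hreg : IsRegularLocalRing (Localization.AtPrime P) := by
    refine RegLocus.regular_of_smoothAt p.ResidueField (p.Fiber S) P (RegLocus.regular_congr hcomap.symm ?_)
    exact IsRegularLocalRing.of_ringEquiv (R := p.ResidueField)
      (IsLocalization.atUnits p.ResidueField (⊥ : Ideal p.ResidueField).primeCompl
        (S := Localization.AtPrime (⊥ : Ideal p.ResidueField))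
        (fun x hx => isUnit_iff_ne_zero.2 fun h => hx (by simp [h]))).toRingEquiv
  exact IsRegularLocalRing.of_ringEquiv (R := Localization.AtPrime P) e

/-- Near a point of it, the kernel of a section of a smooth algebra is generated by a regular sequence. -/
theorem exists_regular_nhd_section' {B S : Type u} [CommRing B] [CommRing S] [Algebra B S]
    [Algebra.Smooth B S] (φ : S →ₐ[B] B) (q : Ideal S) [q.IsPrime] (hq : RingHom.ker φ ≤ q) :
    ∃ g ∉ q, ∃ l : List (Localization.Away g), IsWeaklyRegular (Localization.Away g) l ∧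
      (RingHom.ker φ).map (algebraMap S (Localization.Away g)) = Ideal.ofList l := by
  have : Module.Flat B S := Algebra.Smooth.flat B S
  have hsurj : Function.Surjective φ := fun b => ⟨algebraMap B S b, φ.commutes b⟩
  let E : Algebra.Extension.{u} B B := Algebra.Extension.ofSurjective φ hsurj
  have : Algebra.FormallySmooth B E.Ring := inferInstanceAs (Algebra.FormallySmooth B S)
  obtain ⟨l, hl⟩ := E.formallySmooth_iff_split_injection.1 inferInstance
  have : Module.Projective B E.Cotangent := Module.Projective.of_split _ l hl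
  have hflat : ConormalFlat (RingHom.ker φ) := conormalFlat_of_flat (E := E)
  let I := RingHom.ker φ
  have hI : I.FG := Algebra.FinitePresentation.ker_fG_of_surjective φ hsurj
  have : Module.Flat B (S ⧸ I) :=
    Module.Flat.of_linearEquiv (Ideal.quotientKerAlgEquivOfSurjective hsurj).toLinearEquiv
  let T := Localization.AtPrime q
  let p := q.comap (algebraMap B S)
  let pT := p.map (algebraMap B T)
  have hJm : I.map (algebraMap S T) ≤ maximalIdeal T := Ideal.map_le_iff_le_comap.mpr fun a ha => by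
    rw [Ideal.mem_comap, IsLocalization.AtPrime.to_map_mem_maximal_iff T q a]
    exact hq ha
  have hJ : I.map (algebraMap S T) ≠ ⊤ := fun h => (maximalIdeal.isMaximal T).ne_top (top_le_iff.1 (h ▸ hJm))
  obtain ⟨r, x, hxI, hxJ, hind⟩ := exists_minimal_generators q hI hflat
  have := isRegularLocalRing_fibre' B S q
  have hpm : pT ≤ maximalIdeal T := Ideal.map_le_iff_le_comap.2 fun a ha => by
    rw [Ideal.mem_comap, IsScalarTower.algebraMap_apply B S T, IsLocalization.AtPrime.to_map_mem_maximal_iff T q]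
    exact ha
  obtain ⟨y, hyJ, hyreg⟩ := exists_regular_generators pT _ hJ (hI.map _) hpm _ hxJ hind
    (inter_le_mul_localization q p)
  obtain ⟨g, hg, a, -, ha, hspan⟩ := exists_koszulRegular_nhd_gen I hI q y hyJ hyreg
  exact ⟨g, hg, _, ha, hspan⟩

/-- A section of a smooth morphism, if a closed immersion, is a regular closed immersion. -/
theorem isRegularClosedImmersion_section' {X P : Scheme.{u}} (π : P ⟶ X) (s : X ⟶ P) [Smooth π]
    [IsClosedImmersion s] (hs : s ≫ π = 𝟙 X) : Mor2.IsRegularClosedImmersion s := by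
  refine ⟨inferInstance, fun x => ?_⟩
  obtain ⟨U, hU, hxU, -⟩ := TopologicalSpace.Opens.isBasis_iff_nbhd.1 X.isBasis_affineOpens
    (TopologicalSpace.Opens.mem_top x)
  have hπs : ∀ y, π (s y) = y := fun y => by rw [← Scheme.Hom.comp_apply, hs]; rfl
  obtain ⟨W₀, hW₀, hsW₀, hW₀U⟩ := TopologicalSpace.Opens.isBasis_iff_nbhd.1 P.isBasis_affineOpens
    (show s x ∈ π ⁻¹ᵁ U by show π (s x) ∈ U; rw [hπs]; exact hxU)
  obtain ⟨b, hbW, hxb⟩ := hU.exists_basicOpen_le (V := s ⁻¹ᵁ W₀) ⟨x, hsW₀⟩ hxU
  let V := X.basicOpen b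
  have hV : IsAffineOpen V := hU.basicOpen b
  let W := P.basicOpen (π.appLE U W₀ hW₀U b)
  have hW : IsAffineOpen W := hW₀.basicOpen _
  have hWeq : W = W₀ ⊓ π ⁻¹ᵁ V := Scheme.basicOpen_appLE ..
  have e1 : W ≤ π ⁻¹ᵁ V := hWeq.trans_le inf_le_right
  have e2 : V ≤ s ⁻¹ᵁ W := fun y hy => by
    show s y ∈ W
    rw [hWeq]
    exact ⟨hbW hy, show π (s y) ∈ V by rw [hπs]; exact hy⟩
  have e3 : s ⁻¹ᵁ W ≤ V := fun y hy => by
    rw [← hπs y]
    exact e1 hy
  have hsm := π.smooth_appLE hV hW e1
  letI : Algebra Γ(X, V) Γ(P, W) := (π.appLE V W e1).hom.toAlgebra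
  haveI : Algebra.Smooth Γ(X, V) Γ(P, W) := hsm
  have hφ : π.appLE V W e1 ≫ s.appLE W V e2 = 𝟙 Γ(X, V) := by
    rw [Scheme.Hom.appLE_comp_appLE]
    simp only [hs]
    rw [show (𝟙 X : X ⟶ X).appLE V V _ = X.presheaf.map (homOfLE (le_refl V)).op from Category.id_comp _]
    exact (congrArg X.presheaf.map (Subsingleton.elim _ _)).trans (X.presheaf.map_id _)
  let φ : Γ(P, W) →ₐ[Γ(X, V)] Γ(X, V) :=
    { (s.appLE W V e2).hom with commutes' := fun c => congr(($hφ).hom c) }
  have hkerW : s.ker.ideal ⟨W, hW⟩ = RingHom.ker φ := by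
    rw [Scheme.Hom.ker_apply]
    ext z
    simp only [RingHom.mem_ker]
    change (s.app W).hom z = 0 ↔ (s.appLE W V e2).hom z = 0
    rw [Scheme.Hom.appLE]
    change _ ↔ (X.presheaf.map (homOfLE e2).op).hom ((s.app W).hom z) = 0
    exact (map_eq_zero_iff _ (ConcreteCategory.bijective_of_isIso
      (X.presheaf.map (eqToHom (le_antisymm e2 e3)).op)).injective).symm
  let m : Ideal Γ(P, W) := ((IsLocalRing.maximalIdeal (X.presheaf.stalk x)).comap
    (X.presheaf.germ V x hxb).hom).comap φ
  haveI : m.IsPrime := Ideal.IsPrime.comap φ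
  obtain ⟨g, hg, l, hl, hspan⟩ := exists_regular_nhd_section' φ m fun z hz => by
    simp only [m, Ideal.mem_comap, RingHom.mem_ker.1 hz, map_zero]
    exact Ideal.zero_mem _
  let W' := P.basicOpen g
  have hW' : IsAffineOpen W' := hW.basicOpen g
  have hxg : s x ∈ W' := by
    have h1 : x ∈ X.basicOpen (φ g) := (Scheme.mem_basicOpen _ _ x hxb).2
      (IsLocalRing.notMem_maximalIdeal.1 hg)
    have h2 : X.basicOpen (φ g) = V ⊓ s ⁻¹ᵁ P.basicOpen g := Scheme.basicOpen_appLE ..
    exact (h2 ▸ h1).2
  refine ⟨W', hW', hxg, ?_⟩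
  haveI : IsLocalization.Away g Γ(P, W') := hW.isLocalization_basicOpen g
  let e := IsLocalization.algEquiv (Submonoid.powers g) (Localization.Away g) Γ(P, W')
  have hker' : s.ker.ideal ⟨W', hW'⟩ = (RingHom.ker φ).map (algebraMap Γ(P, W) Γ(P, W')) := by
    rw [← hkerW]
    exact (s.ker.map_ideal (U := P.affineBasicOpen g (U := ⟨W, hW⟩)) (V := ⟨W, hW⟩) (P.basicOpen_le g)).symm
  have hkerl : s.ker.ideal ⟨W', hW'⟩ = Ideal.ofList (l.map e) := by
    rw [hker', ← AlgHom.comp_algebraMap e.toAlgHom, ← Ideal.map_map, hspan, Ideal.map_ofList]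
    rfl
  refine ⟨l.map e, ⟨?_, ?_⟩, hkerl⟩
  · letI : Algebra (Localization.Away g) Γ(P, W') := e.toRingEquiv.toRingHom.toAlgebra
    haveI : Module.Flat (Localization.Away g) Γ(P, W') :=
      RingHom.flat_algebraMap_iff.1 (RingHom.Flat.of_bijective e.bijective)
    exact hl.of_flat (S := Γ(P, W'))
  · rw [smul_eq_mul, Ideal.mul_top, ← hkerl]
    intro h
    have h1 : (1 : Γ(P, W')) ∈ s.ker.ideal ⟨W', hW'⟩ := h ▸ Submodule.mem_top
    rw [Scheme.Hom.ker_apply, RingHom.mem_ker, map_one] at h1
    haveI : Nontrivial Γ(X, s ⁻¹ᵁ W') :=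
      (X.presheaf.germ (s ⁻¹ᵁ W') x hxg).hom.domain_nontrivial
    exact one_ne_zero h1

end Groth.Agent.PCHom
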