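import Groth.Agent.PCHom.BaseChange
import Mathlib

/-!
# Pseudo-coherent and perfect ring maps are local on the target
-/

set_option autoImplicit false
set_option linter.style.haveILetI false

universe u

open CategoryTheory TensorProduct

namespace Groth.Agent.PCHom

attribute [local instance] HasDerivedCategory.standard

/-- Tor dimension over the base is local on a cover of the algebra. -/
theorem hasTorDimLE_cover {A S : Type u} [CommRing A] [CommRing S] [Algebra A S] {ι : Type} {T : ι → Type u}
    [∀ i, CommRing (T i)] (φ : ∀ i, S →+* T i) [∀ i, Algebra A (T i)]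
    (hφ : ∀ i x, algebraMap A (T i) x = φ i (algebraMap A S x)) (hcov : DRingTorAmp.Cover φ)
    (d : ℕ) (h : ∀ i, DRing.HasTorDimLE A d (T i)) : DRing.HasTorDimLE A d S := by
  intro N _ _ p hp
  obtain ⟨q, rfl⟩ : ∃ q, p = q + 1 := ⟨p - 1, by omega⟩
  let P : ProjectiveResolution (ModuleCat.of A N) := CategoryTheory.projectiveResolution (ModuleCat.of A N)
  rw [TorShift.subsingleton_tor_iff S N P q]
  refine hcov.exact ((P.complex.d (q + 2) (q + 1)).hom.baseChange S) ((P.complex.d (q + 1) q).hom.baseChange S) fun i => ?_
  letI := (φ i).toAlgebra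
  haveI : IsScalarTower A S (T i) := IsScalarTower.of_algebraMap_eq (hφ i)
  refine (Function.Exact.iff_of_ladder_linearEquiv
    (e₁ := (TensorProduct.AlgebraTensorModule.cancelBaseChange A S S (T i) (P.complex.X (q + 2))).restrictScalars A)
    (e₂ := (TensorProduct.AlgebraTensorModule.cancelBaseChange A S S (T i) (P.complex.X (q + 1))).restrictScalars A)
    (e₃ := (TensorProduct.AlgebraTensorModule.cancelBaseChange A S S (T i) (P.complex.X q)).restrictScalars A)
    (f₁₂ := (((P.complex.d (q + 2) (q + 1)).hom.baseChange S).lTensor (T i)).restrictScalars A)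
    (f₂₃ := (((P.complex.d (q + 1) q).hom.baseChange S).lTensor (T i)).restrictScalars A)
    (g₁₂ := (P.complex.d (q + 2) (q + 1)).hom.lTensor (T i))
    (g₂₃ := (P.complex.d (q + 1) q).hom.lTensor (T i)) ?_ ?_).1 ((TorShift.subsingleton_tor_iff (T i) N P q).1 (h i N _ hp))
  all_goals
    refine LinearMap.ext fun z => ?_
    induction z with
    | zero => simp
    | add x y hx hy => simp only [map_add, hx, hy]
    | tmul t w =>
      induction w with
      | zero => simp
      | add x y hx hy => simp only [TensorProduct.tmul_add, map_add] at hx hy ⊢; simp only [hx, hy]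
      | tmul s x => rfl

variable {A S : Type u} [CommRing A] [CommRing S] [Algebra A S]

theorem exists_lifts {n : ℕ} (φ : MvPolynomial (Fin n) A →ₐ[A] S) (hφ : Function.Surjective φ) {r : ℕ}
    (g : Fin r → S) (hg : Ideal.span (Set.range g) = ⊤) :
    ∃ (F : Fin r → MvPolynomial (Fin n) A) (k : MvPolynomial (Fin n) A), (∀ i, φ (F i) = g i) ∧ φ k = 0 ∧
      Ideal.span (Set.range (Fin.cons k F : Fin (r + 1) → MvPolynomial (Fin n) A)) = ⊤ := by
  choose F hF using fun i => hφ (g i)
  have h1 : (1 : S) ∈ (Ideal.span (Set.range F)).map φ.toRingHom := by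
    rw [Ideal.map_span, ← Set.range_comp, show φ.toRingHom ∘ F = g from funext hF, hg]
    trivial
  obtain ⟨a, ha, ha1⟩ := (Ideal.mem_map_iff_of_surjective φ.toRingHom hφ).1 h1
  refine ⟨F, 1 - a, hF, by rw [map_sub, map_one]; exact sub_eq_zero.2 ha1.symm, ?_⟩
  rw [Ideal.eq_top_iff_one]
  have h0 : 1 - a ∈ Ideal.span (Set.range (Fin.cons (1 - a) F : Fin (r + 1) → MvPolynomial (Fin n) A)) :=
    Ideal.subset_span ⟨0, Fin.cons_zero _ _⟩
  have hle : Set.range F ⊆ Set.range (Fin.cons (1 - a) F : Fin (r + 1) → MvPolynomial (Fin n) A) :=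
    fun x ⟨i, hi⟩ => ⟨i.succ, (Fin.cons_succ _ _ i).trans hi⟩
  simpa using Ideal.add_mem _ h0 (Ideal.span_mono hle ha)

/-- Pseudo-coherence is local on the target. -/
theorem pc_of_span [Algebra.FiniteType A S] {r : ℕ} (g : Fin r → S) (hg : Ideal.span (Set.range g) = ⊤)
    (h : ∀ i, MoreMor.IsPseudoCoherentHom A (Localization.Away (g i))) : MoreMor.IsPseudoCoherentHom A S := by
  obtain ⟨n, φ, hφ⟩ := Algebra.FiniteType.iff_quotient_mvPolynomial''.1 (inferInstance : Algebra.FiniteType A S)
  obtain ⟨F, k, hF, hk, hspan⟩ := exists_lifts φ hφ g hg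
  refine ⟨n, φ, hφ, ?_⟩
  letI := φ.toRingHom.toAlgebra
  haveI : IsScalarTower A (MvPolynomial (Fin n) A) S := IsScalarTower.of_algebraMap_eq' φ.comp_algebraMap.symm
  refine pcModule_local S _ hspan (Fin.cases ?_ fun i => ?_)
  · rw [Fin.cons_zero]
    haveI : Subsingleton (Localization.Away k ⊗[MvPolynomial (Fin n) A] S) := by
      refine subsingleton_of_forall_eq 0 fun z => ?_
      have hu : IsUnit (algebraMap (MvPolynomial (Fin n) A) (Localization.Away k) k) :=
        IsLocalization.Away.algebraMap_isUnit k
      have hz : k • z = 0 := by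
        induction z with
        | zero => exact smul_zero _
        | add x y hx hy => rw [smul_add, hx, hy, add_zero]
        | tmul x y =>
          rw [← TensorProduct.tmul_smul, Algebra.smul_def, show algebraMap (MvPolynomial (Fin n) A) S k = φ k from rfl,
            hk, zero_mul, TensorProduct.tmul_zero]
      rw [← hu.smul_eq_zero, algebraMap_smul]
      exact hz
    exact pcModule_of_perfect (DRingAmp.isPerfectModule_projective _)
  · rw [Fin.cons_succ]
    let S' := Localization.Away (g i)
    let P' := Localization.Away (F i)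
    haveI hS' : IsLocalization.Away (φ (F i)) S' := by rw [hF]; infer_instance
    let ψ : P' →ₐ[A] S' := IsLocalization.Away.mapₐ P' S' φ (F i)
    have hψ : Function.Surjective ψ := IsLocalization.Away.mapₐ_surjective_of_surjective (Aₚ := P') (Bₚ := S') _ hφ
    haveI : Algebra.FinitePresentation (MvPolynomial (Fin n) A) P' :=
      IsLocalization.Away.finitePresentation (F i)
    haveI : Algebra.FinitePresentation A P' := Algebra.FinitePresentation.trans A (MvPolynomial (Fin n) A) P'
    haveI : Module.Flat (MvPolynomial (Fin n) A) P' := IsLocalization.flat P' (Submonoid.powers (F i))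
    haveI : Module.Flat A P' := Module.Flat.trans A (MvPolynomial (Fin n) A) P'
    have hp := pc_of_flat (h i) P' ψ hψ
    letI := ψ.toRingHom.toAlgebra
    haveI : IsScalarTower (MvPolynomial (Fin n) A) S S' := inferInstance
    haveI : IsScalarTower (MvPolynomial (Fin n) A) P' S' :=
      IsScalarTower.of_algebraMap_eq fun x => by
        show _ = IsLocalization.Away.map P' S' φ.toRingHom (F i) (algebraMap _ P' x)
        rw [IsScalarTower.algebraMap_apply (MvPolynomial (Fin n) A) S S' x]
        simp [IsLocalization.Away.map, RingHom.algebraMap_toAlgebra]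
    haveI : IsLocalization (Algebra.algebraMapSubmonoid S (Submonoid.powers (F i))) S' := by
      rw [Algebra.algebraMapSubmonoid_powers, show algebraMap (MvPolynomial (Fin n) A) S (F i) = g i from hF i]
      infer_instance
    let e := ((IsLocalizedModule.isBaseChange (Submonoid.powers (F i)) P'
      ((IsScalarTower.toAlgHom (MvPolynomial (Fin n) A) S S').toLinearMap)).equiv)
    exact pcModule_congr e.symm hp

/-- Perfectness is local on the target. -/
theorem perfect_of_span [Algebra.FiniteType A S] {r : ℕ} (g : Fin r → S) (hg : Ideal.span (Set.range g) = ⊤)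
    (h : ∀ i, MoreMor.IsPerfectHom A (Localization.Away (g i))) : MoreMor.IsPerfectHom A S := by
  refine ⟨pc_of_span g hg fun i => (h i).1, ?_⟩
  choose d hd using fun i => (h i).2
  obtain ⟨D, hD⟩ := Finite.exists_le d
  exact ⟨D, hasTorDimLE_cover (fun i => algebraMap S (Localization.Away (g i)))
    (fun i x => IsScalarTower.algebraMap_apply A S (Localization.Away (g i)) x)
    (DRingTorAmp.cover_away g hg) D fun i => TorShift.hasTorDimLE_mono (hD i) (hd i)⟩

end Groth.Agent.PCHom
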